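import Mathlib.RingTheory.Ideal.KrullsHeightTheorem
import Mathlib.RingTheory.Filtration
import Mathlib.RingTheory.AdicCompletion.Basic
import Mathlib.RingTheory.Localization.AtPrime.Basic

/-!
# Chevalley's lemma and symbolic powers
-/

set_option autoImplicit false
set_option linter.style.haveILetI false
set_option linter.unusedSectionVars false

universe u

open IsLocalRing

noncomputable section

namespace HLVTLib

variable {R : Type u} [CommRing R] [IsLocalRing R] [IsNoetherianRing R]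

theorem isArtinianRing_quotient_pow (t : ℕ) : IsArtinianRing (R ⧸ maximalIdeal R ^ t) := by
  rcases Nat.eq_zero_or_pos t with rfl | ht
  · haveI : Subsingleton (R ⧸ maximalIdeal R ^ 0) := Ideal.Quotient.subsingleton_iff.2 (by rw [pow_zero, Ideal.one_eq_top])
    infer_instance
  refine quotient_artinian_of_mem_minimalPrimes_of_isLocalRing _ ⟨⟨(maximalIdeal.isMaximal R).isPrime, Ideal.pow_le_self ht.ne'⟩,
    fun q hq _ => hq.1.le_of_pow_le hq.2⟩

/-- Chevalley's lemma. -/
theorem exists_le_pow_maximal [IsAdicComplete (maximalIdeal R) R] (a : ℕ → Ideal R) (ha : Antitone a)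
    (h : ∀ x : R, (∀ k, x ∈ a k) → x = 0) (t : ℕ) : ∃ k, a k ≤ maximalIdeal R ^ t := by
  set m := maximalIdeal R
  have hst : ∀ s, ∃ k, ∀ j, k ≤ j → a k ≤ a j ⊔ m ^ s := fun s => by
    haveI := isArtinianRing_quotient_pow (R := R) s
    let f : ℕ →o (Submodule (R ⧸ m ^ s) (R ⧸ m ^ s))ᵒᵈ :=
      { toFun := fun k => OrderDual.toDual ((a k).map (Ideal.Quotient.mk (m ^ s)))
        monotone' := fun i j hij => Ideal.map_mono (ha hij) }
    obtain ⟨k, hk⟩ := IsArtinian.monotone_stabilizes f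
    refine ⟨k, fun j hj x hx => ?_⟩
    have h1 : (a k).map (Ideal.Quotient.mk (m ^ s)) = (a j).map (Ideal.Quotient.mk (m ^ s)) := hk j hj
    have h2 := Ideal.mem_map_of_mem (Ideal.Quotient.mk (m ^ s)) hx
    rw [h1, ← Ideal.mem_comap, Ideal.comap_map_of_surjective _ Ideal.Quotient.mk_surjective,
      ← RingHom.ker_eq_comap_bot, Ideal.mk_ker] at h2
    exact h2
  choose k₀ hk₀ using hst
  -- make the indices increasing
  let k : ℕ → ℕ := fun s => ∑ i ∈ Finset.range (s + 1), k₀ i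
  have hk0 : ∀ s, k₀ s ≤ k s := fun s => Finset.single_le_sum (fun i _ => Nat.zero_le _) (Finset.self_mem_range_succ s)
  have hkmono : Monotone k := monotone_nat_of_le_succ fun s => by
    show _ ≤ ∑ i ∈ Finset.range (s + 1 + 1), k₀ i
    rw [Finset.sum_range_succ _ (s + 1)]
    exact Nat.le_add_right _ _
  have hstep : ∀ s j x, x ∈ a (k s) → ∃ y ∈ a j, x - y ∈ m ^ s := fun s j x hx => by
    by_cases hj : k₀ s ≤ j
    · obtain ⟨y, hy, z, hz, rfl⟩ := Submodule.mem_sup.1 (hk₀ s j hj (ha (hk0 s) hx))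
      exact ⟨y, hy, by simpa using hz⟩
    · exact ⟨x, ha ((le_of_not_ge hj).trans (hk0 s)) hx, by simp⟩
  refine ⟨k t, fun x hx => ?_⟩
  -- a sequence approaching the intersection
  choose y hy hyd using fun (s : ℕ) (x : a (k s)) => hstep s (k (s + 1)) x.1 x.2
  let z : ∀ n : ℕ, a (k (t + n)) := fun n => Nat.rec (motive := fun n => a (k (t + n))) ⟨x, hx⟩
    (fun n w => ⟨y (t + n) w, hy (t + n) w⟩) n
  have hz : ∀ n, (z n).1 - (z (n + 1)).1 ∈ m ^ (t + n) := fun n => hyd (t + n) (z n)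
  have hz' : ∀ n p, (z n).1 - (z (n + p)).1 ∈ m ^ (t + n) := fun n p => by
    induction p with
    | zero => simp
    | succ p ih =>
      have := add_mem ih (Ideal.pow_le_pow_right (show t + n ≤ t + (n + p) by omega) (hz (n + p)))
      rwa [sub_add_sub_cancel] at this
  obtain ⟨L, hL⟩ := IsPrecomplete.prec (I := m) (M := R) inferInstance (f := fun n => (z n).1) fun {i j} hij => by
    rw [SModEq.sub_mem, smul_eq_mul, Ideal.mul_top]
    obtain ⟨p, rfl⟩ := Nat.exists_eq_add_of_le hij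
    exact Ideal.pow_le_pow_right (Nat.le_add_left i t) (hz' i p)
  have hL' : ∀ n, (z n).1 - L ∈ m ^ n := fun n => by
    have := hL n
    rwa [SModEq.sub_mem, smul_eq_mul, Ideal.mul_top] at this
  have hLj : ∀ j, L ∈ a j := fun j => by
    have hmem : ∀ n, L ∈ a j ⊔ m ^ n := fun n => by
      have h1 : (z n).1 ∈ a (k (t + n)) := (z n).2
      obtain ⟨w, hw, hwd⟩ := hstep (t + n) j (z n).1 h1
      have h2 : L = w + (((z n).1 - w) - ((z n).1 - L)) := by ring
      rw [h2]
      exact Submodule.add_mem_sup hw (sub_mem (Ideal.pow_le_pow_right (Nat.le_add_left n t) hwd) (hL' n))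
    rcases eq_or_ne (a j) ⊤ with hj | hj
    · rw [hj]; trivial
    haveI : Nontrivial (R ⧸ a j) := Ideal.Quotient.nontrivial_iff.2 hj
    haveI : IsLocalRing (R ⧸ a j) := IsLocalRing.of_surjective' _ Ideal.Quotient.mk_surjective
    rw [← Ideal.Quotient.eq_zero_iff_mem, ← Ideal.mem_bot,
      ← Ideal.iInf_pow_eq_bot_of_isLocalRing (R := R ⧸ a j) (m.map (Ideal.Quotient.mk (a j))) (fun he =>
        (maximalIdeal.isMaximal R).ne_top (top_le_iff.1 ?_))]
    · refine Submodule.mem_iInf _ |>.2 fun n => ?_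
      rw [← Ideal.map_pow]
      obtain ⟨w, hw, v, hv, hwv⟩ := Submodule.mem_sup.1 (hmem n)
      rw [← hwv, map_add, Ideal.Quotient.eq_zero_iff_mem.2 hw, zero_add]
      exact Ideal.mem_map_of_mem _ hv
    · have h3 := congrArg (Ideal.comap (Ideal.Quotient.mk (a j))) he
      rw [Ideal.comap_map_of_surjective _ Ideal.Quotient.mk_surjective, ← RingHom.ker_eq_comap_bot, Ideal.mk_ker,
        Ideal.comap_top, sup_eq_left.2 (IsLocalRing.le_maximalIdeal hj)] at h3
      exact h3.ge
  have hL0 := h L hLj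
  have h4 : x - (z t).1 ∈ m ^ t := by
    have h6 := hz' 0 t
    rw [Nat.zero_add] at h6
    exact h6
  have h5 := hL' t
  rw [hL0, sub_zero] at h5
  simpa using add_mem h4 h5

/-- The symbolic power. -/
abbrev symb (p : Ideal R) [p.IsPrime] (n : ℕ) : Ideal R :=
  ((Ideal.map (algebraMap R (Localization.AtPrime p)) p) ^ n).comap (algebraMap R (Localization.AtPrime p))

theorem pow_le_symb (p : Ideal R) [p.IsPrime] (n : ℕ) : p ^ n ≤ symb p n :=
  Ideal.map_le_iff_le_comap.1 (le_of_eq (Ideal.map_pow _ p n))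

theorem mem_symb_of_mul_mem {p : Ideal R} [p.IsPrime] {n : ℕ} {s x : R} (hs : s ∉ p) (h : s * x ∈ symb p n) :
    x ∈ symb p n := by
  rw [Ideal.mem_comap, map_mul] at h
  rw [Ideal.mem_comap]
  exact (Ideal.unit_mul_mem_iff_mem _ (IsLocalization.map_units _ (⟨s, hs⟩ : p.primeCompl))).1 h

variable [IsDomain R] [IsAdicComplete (maximalIdeal R) R]

theorem exists_symb_le (p : Ideal R) [p.IsPrime] (hp : ringKrullDim (R ⧸ p) = 1) (n : ℕ) :
    ∃ k, n ≤ k ∧ symb p k ≤ p ^ n := by
  classical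
  set φ := algebraMap R (Localization.AtPrime p)
  set m := maximalIdeal R
  obtain ⟨gen, hgen⟩ := (IsNoetherian.noetherian (symb p n) : (symb p n).FG)
  have hex : ∀ x : R, x ∈ symb p n → ∃ s, s ∉ p ∧ s * x ∈ p ^ n := fun x hx => by
    rw [Ideal.mem_comap, ← Ideal.map_pow, IsLocalization.mem_map_algebraMap_iff p.primeCompl] at hx
    obtain ⟨⟨a, s⟩, hs⟩ := hx
    have h' : φ (x * s) = φ a := by rw [map_mul]; exact hs
    obtain ⟨c, hc⟩ := (IsLocalization.eq_iff_exists p.primeCompl _).1 h'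
    refine ⟨c * s, p.primeCompl.mul_mem c.2 s.2, ?_⟩
    have : (c : R) * s * x = c * a := by linear_combination hc
    rw [this]
    exact Ideal.mul_mem_left _ _ a.2
  choose! s hs hsx using hex
  let S := ∏ x ∈ gen, s x
  have hSp : S ∉ p := fun h => by
    obtain ⟨x, hx, hxp⟩ := (Ideal.IsPrime.prod_mem_iff).1 h
    exact hs x (hgen ▸ Ideal.subset_span hx) hxp
  have hSK : Ideal.span {S} * symb p n ≤ p ^ n := by
    rw [← hgen, Ideal.span_mul_span', Ideal.span_le]
    rintro _ ⟨a, ha, b, hb, rfl⟩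
    rw [Set.mem_singleton_iff] at ha
    subst ha
    show S * b ∈ p ^ n
    rw [show S = s b * ∏ x ∈ gen.erase b, s x from (Finset.mul_prod_erase gen s hb).symm, mul_right_comm]
    exact Ideal.mul_mem_right _ _ (hsx b (hgen ▸ Ideal.subset_span hb))
  -- `p ^ n ⊔ (S)` is primary to the maximal ideal
  have hrad : m ≤ (p ^ n ⊔ Ideal.span {S}).radical := by
    rw [Ideal.radical_eq_sInf]
    refine le_sInf fun q ⟨hq, hqp⟩ => ?_
    have hpq : p ≤ q := hqp.le_of_pow_le (n := n) (le_sup_left.trans hq)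
    have hSq : S ∈ q := hq (Ideal.mem_sup_right (Ideal.mem_span_singleton_self S))
    by_contra hmq
    have h1 : p < q := lt_of_le_of_ne hpq fun he => hSp (he ▸ hSq)
    have h2 : q < m := lt_of_le_of_ne (IsLocalRing.le_maximalIdeal hqp.ne_top) fun he => hmq he.ge
    have hmk := Ideal.Quotient.mk_surjective (I := p)
    let P : ∀ (w : Ideal R), w.IsPrime → p ≤ w → PrimeSpectrum (R ⧸ p) := fun w hw hpw =>
      ⟨w.map (Ideal.Quotient.mk p), @Ideal.map_isPrime_of_surjective _ _ _ _ _ _ _ _ hmk w hw (by rw [Ideal.mk_ker]; exact hpw)⟩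
    have hP : ∀ w w' hw hw' hpw hpw', w < w' → P w hw hpw < P w' hw' hpw' := fun w w' hw hw' hpw hpw' hlt => by
      refine lt_of_le_of_ne (Ideal.map_mono hlt.le) fun he => hlt.ne ?_
      have h3 := congrArg (fun Q : PrimeSpectrum (R ⧸ p) => Q.asIdeal.comap (Ideal.Quotient.mk p)) he
      simp only [P, Ideal.comap_map_of_surjective _ hmk, ← RingHom.ker_eq_comap_bot, Ideal.mk_ker] at h3
      rwa [sup_eq_left.2 hpw, sup_eq_left.2 hpw'] at h3
    let t₁ : LTSeries (PrimeSpectrum (R ⧸ p)) :=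
      (RelSeries.singleton _ (P p inferInstance le_rfl)).snoc (P q hqp hpq) (hP p q inferInstance hqp le_rfl hpq h1)
    have hlast : t₁.last = P q hqp hpq := RelSeries.last_snoc _ _ _
    let t : LTSeries (PrimeSpectrum (R ⧸ p)) :=
      t₁.snoc (P m (maximalIdeal.isMaximal R).isPrime (hpq.trans h2.le))
        (show t₁.last < _ from hlast ▸ hP q m hqp (maximalIdeal.isMaximal R).isPrime hpq (hpq.trans h2.le) h2)
    have h4 : ((2 : ℕ) : WithBot ℕ∞) ≤ ringKrullDim (R ⧸ p) := Order.LTSeries.length_le_krullDim t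
    rw [hp] at h4
    have : (2 : ℕ) ≤ 1 := by exact_mod_cast h4
    omega
  obtain ⟨a, ha⟩ := Ideal.exists_pow_le_of_le_radical_of_fg hrad (IsNoetherian.noetherian m)
  obtain ⟨c, hc⟩ := Ideal.exists_pow_inf_eq_pow_smul m (M := R) (symb p n)
  obtain ⟨k, hk⟩ := exists_le_pow_maximal (fun k => symb p k)
    (fun i j hij => Ideal.comap_mono (Ideal.pow_le_pow_right hij)) (fun x hx => by
      have h1 : φ x ∈ ⨅ k : ℕ, (Ideal.map φ p) ^ k := Submodule.mem_iInf _ |>.2 fun k => hx k
      rw [Ideal.iInf_pow_eq_bot_of_isLocalRing _ (by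
        rw [Localization.AtPrime.map_eq_maximalIdeal]; exact (maximalIdeal.isMaximal _).ne_top), Ideal.mem_bot] at h1
      exact (map_eq_zero_iff φ (IsLocalization.injective _ p.primeCompl_le_nonZeroDivisors)).1 h1) (a + c)
  refine ⟨max k n, le_max_right _ _, fun x hx => ?_⟩
  have hxm : x ∈ m ^ (a + c) := hk (Ideal.comap_mono (Ideal.pow_le_pow_right (le_max_left k n)) hx)
  have hxn : x ∈ symb p n := Ideal.comap_mono (Ideal.pow_le_pow_right (le_max_right k n)) hx
  have h1 : x ∈ m ^ (a + c) • (⊤ : Ideal R) ⊓ symb p n := ⟨by rwa [smul_eq_mul, Ideal.mul_top], hxn⟩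
  rw [hc (a + c) (Nat.le_add_left c a), Nat.add_sub_cancel] at h1
  refine (Submodule.smul_mono ha inf_le_right).trans ?_ h1
  rw [smul_eq_mul, Ideal.sup_mul]
  exact sup_le Ideal.mul_le_left hSK

end HLVTLib
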