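import Groth.Agent.HLVTLib.Mono
import Mathlib.RingTheory.Ideal.GoingUp

/-!
# Elementary consequences of the vanishing of the top local cohomology
-/

set_option autoImplicit false
set_option linter.style.haveILetI false
set_option linter.unusedSectionVars false

universe u

open CategoryTheory LocCohLib

noncomputable section

namespace HLVTLib

variable {R : Type u} [CommRing R] [IsNoetherianRing R] {I : Ideal R}

theorem subsingleton_H_of_dim_lt {i : ℕ} (h : ringKrullDim R < (i : WithBot ℕ∞)) (M : Type u) [AddCommGroup M]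
    [Module R M] : Subsingleton (LocCoh.H I i M) :=
  subsingleton_H_of_supportDim_lt i M (lt_of_le_of_lt (Module.supportDim_le_ringKrullDim _ _) h)

theorem subsingleton_H_of_ring {d : ℕ} (hd : ringKrullDim R ≤ d) (h : Subsingleton (LocCoh.H I d R))
    (M : Type u) [AddCommGroup M] [Module R M] {i : ℕ} (hi : d ≤ i) : Subsingleton (LocCoh.H I i M) := by
  have hlt : ∀ (j : ℕ), d < j → ∀ (N : Type u) [AddCommGroup N] [Module R N], Subsingleton (LocCoh.H I j N) :=
    fun j hj N _ _ => subsingleton_H_of_dim_lt (lt_of_le_of_lt hd (by exact_mod_cast hj)) N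
  rcases hi.eq_or_lt with rfl | hi
  · let p := Finsupp.linearCombination R (id : M → M)
    exact subsingleton_H_right (M₁ := LinearMap.ker p) (LinearMap.ker p).subtype p Subtype.val_injective
      (LinearMap.exact_subtype_ker_map p) (Finsupp.linearCombination_id_surjective R M) _
      (subsingleton_H_free _ h M) (hlt _ (Nat.lt_succ_self d) _)
  · exact hlt i hi M

theorem subsingleton_H_congr_radical {J : Ideal R} (h : I.radical = J.radical) (i : ℕ) (M : Type u) [AddCommGroup M]
    [Module R M] : Subsingleton (LocCoh.H I i M) ↔ Subsingleton (LocCoh.H J i M) :=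
  ((localCohomology.isoOfSameRadical h i).app (ModuleCat.of R M)).toLinearEquiv.toEquiv.subsingleton_congr

/-- Vanishing passes along a ring map. -/
theorem subsingleton_H_map {S : Type u} [CommRing S] [IsNoetherianRing S] [Algebra R S] {d : ℕ}
    (hd : ringKrullDim R ≤ d) (h : Subsingleton (LocCoh.H I d R)) (M : Type u) [AddCommGroup M] [Module S M]
    {i : ℕ} (hi : d ≤ i) : Subsingleton (LocCoh.H (I.map (algebraMap R S)) i M) := by
  letI : Module R M := Module.compHom M (algebraMap R S)
  haveI := tower_compHom (R := R) (R' := S) M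
  obtain ⟨φ, -⟩ := exists_addEquiv_restrict (R := R) (R' := S) I M i
  haveI := subsingleton_H_of_ring hd h M hi
  exact φ.injective.subsingleton

theorem eq_maximal_of_dim_one {A : Type u} [CommRing A] [IsLocalRing A] {q b : Ideal A} [q.IsPrime] [b.IsPrime]
    (hq : ringKrullDim (A ⧸ q) = 1) (h : q < b) : b = IsLocalRing.maximalIdeal A := by
  by_contra hb
  have hbm : b < IsLocalRing.maximalIdeal A :=
    lt_of_le_of_ne (IsLocalRing.le_maximalIdeal (Ideal.IsPrime.ne_top ‹_›)) hb
  let e := Ideal.Quotient.mk q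
  let P : ∀ (w : Ideal A), w.IsPrime → q ≤ w → PrimeSpectrum (A ⧸ q) := fun w hw hqw =>
    ⟨w.map e, @Ideal.map_isPrime_of_surjective _ _ _ _ _ _ _ _ Ideal.Quotient.mk_surjective w hw
      (by rw [Ideal.mk_ker]; exact hqw)⟩
  have hP : ∀ w w' hw hw' hqw hqw', w < w' → P w hw hqw < P w' hw' hqw' := fun w w' hw hw' hqw hqw' hlt => by
    refine lt_of_le_of_ne (Ideal.map_mono hlt.le) fun he => hlt.ne ?_
    have h3 := congrArg (fun Q : PrimeSpectrum (A ⧸ q) => Q.asIdeal.comap e) he
    simp only [P, e, Ideal.comap_map_of_surjective _ Ideal.Quotient.mk_surjective, ← RingHom.ker_eq_comap_bot,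
      Ideal.mk_ker] at h3
    rwa [sup_eq_left.2 hqw, sup_eq_left.2 hqw'] at h3
  let t₁ : LTSeries (PrimeSpectrum (A ⧸ q)) :=
    (RelSeries.singleton _ (P q inferInstance le_rfl)).snoc (P b inferInstance h.le)
      (hP q b inferInstance inferInstance le_rfl h.le h)
  have hlast : t₁.last = P b inferInstance h.le := RelSeries.last_snoc _ _ _
  let t : LTSeries (PrimeSpectrum (A ⧸ q)) :=
    t₁.snoc (P (IsLocalRing.maximalIdeal A) (IsLocalRing.maximalIdeal.isMaximal A).isPrime (h.le.trans hbm.le))
      (show t₁.last < _ from hlast ▸ hP b _ inferInstance (IsLocalRing.maximalIdeal.isMaximal A).isPrime h.le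
        (h.le.trans hbm.le) hbm)
  have h4 : ((2 : ℕ) : WithBot ℕ∞) ≤ ringKrullDim (A ⧸ q) := Order.LTSeries.length_le_krullDim t
  rw [hq] at h4
  have : (2 : ℕ) ≤ 1 := by exact_mod_cast h4
  omega

end HLVTLib
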