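import Groth.Prelude.Def_W4bk5brsh7111920
import Mathlib.RingTheory.Spectrum.Prime.Topology
import Mathlib.Topology.NoetherianSpace
import Mathlib.RingTheory.Spectrum.Prime.Noetherian
import Mathlib.RingTheory.KrullDimension.Basic

/-!
# Connectedness dimension and subdimension
-/

set_option autoImplicit false
set_option linter.style.haveILetI false
set_option linter.unusedSectionVars false

universe u

open Set TopologicalSpace

noncomputable section

namespace HLVTLib.Conn

variable {T : Type u} [TopologicalSpace T]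

theorem dim_mono {Z W : Set T} (h : Z ⊆ W) : topologicalKrullDim Z ≤ topologicalKrullDim W :=
  Topology.IsInducing.topologicalKrullDim_le (f := Set.inclusion h)
    ((Topology.IsInducing.subtypeVal.of_comp_iff).1 Topology.IsInducing.subtypeVal)

theorem dim_nonneg {Z : Set T} (h : Z.Nonempty) : 0 ≤ topologicalKrullDim Z := by
  obtain ⟨x, hx⟩ := h
  haveI : Nonempty (IrreducibleCloseds Z) :=
    ⟨⟨closure {⟨x, hx⟩}, isIrreducible_singleton.closure, isClosed_closure⟩⟩
  exact Order.krullDim_nonneg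

/-- A proper closed subset of an irreducible space of finite dimension has smaller dimension. -/
theorem dim_lt {C Z : Set T} (hC : IsIrreducible C) (hZ : IsClosed Z) (hle : Z ⊆ C) (hne : Z ≠ C)
    (hfin : topologicalKrullDim C < ⊤) : topologicalKrullDim Z < topologicalKrullDim C := by
  haveI : IrreducibleSpace C := isIrreducible_iff_irreducibleSpace.1 hC
  let i : Z → C := Set.inclusion hle
  have hi : Topology.IsInducing i := (Topology.IsInducing.subtypeVal.of_comp_iff).1 Topology.IsInducing.subtypeVal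
  let top : IrreducibleCloseds C := ⟨Set.univ, IrreducibleSpace.isIrreducible_univ C, isClosed_univ⟩
  have hkey : ∀ s : LTSeries (IrreducibleCloseds Z),
      ((s.length + 1 : ℕ) : WithBot ℕ∞) ≤ topologicalKrullDim C := fun s => by
    let t := s.map (IrreducibleCloseds.map i hi.continuous) (IrreducibleCloseds.map_strictMono_of_isInducing hi)
    have hlt : t.last < top := by
      refine lt_of_le_of_ne (fun _ _ => trivial) fun he => hne (Set.Subset.antisymm hle fun x hx => ?_)
      have h1 : (⟨x, hx⟩ : C) ∈ (t.last : Set C) := by rw [he]; trivial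
      exact closure_minimal (by rintro _ ⟨y, -, rfl⟩; exact y.2) (hZ.preimage continuous_subtype_val) h1
    exact le_trans (le_of_eq (by simp [t])) (Order.LTSeries.length_le_krullDim (t.snoc top hlt))
  rcases Z.eq_empty_or_nonempty with hZe | ⟨z, hz⟩
  · haveI : IsEmpty (IrreducibleCloseds Z) := ⟨fun F => by
      obtain ⟨⟨x, hx⟩, -⟩ := F.isIrreducible.nonempty
      exact (hZe ▸ hx : x ∈ (∅ : Set T))⟩
    show Order.krullDim _ < _
    rw [Order.krullDim_eq_bot_iff.2 inferInstance]
    exact lt_of_lt_of_le (WithBot.bot_lt_coe 0) (dim_nonneg hC.nonempty)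
  · obtain ⟨c, hc⟩ : ∃ c : ℕ, topologicalKrullDim C = (c : WithBot ℕ∞) := by
      obtain ⟨e, he⟩ := WithBot.ne_bot_iff_exists.1
        (ne_bot_of_le_ne_bot (WithBot.coe_ne_bot) (dim_nonneg hC.nonempty))
      rw [← he] at hfin ⊢
      obtain ⟨n, hn⟩ := ENat.ne_top_iff_exists.1 (show e ≠ ⊤ from fun h => hfin.ne (by rw [h]; rfl))
      exact ⟨n, by rw [← hn]; rfl⟩
    rw [hc] at hkey ⊢
    let s₀ : LTSeries (IrreducibleCloseds Z) :=
      RelSeries.singleton _ ⟨closure {⟨z, hz⟩}, isIrreducible_singleton.closure, isClosed_closure⟩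
    have hc1 : 1 ≤ c := by
      have := hkey s₀
      have h2 : s₀.length + 1 ≤ c := by exact_mod_cast this
      omega
    refine lt_of_le_of_lt (iSup_le fun s => ?_ : topologicalKrullDim Z ≤ ((c - 1 : ℕ) : WithBot ℕ∞))
      (by exact_mod_cast (show c - 1 < c by omega))
    have h2 : s.length + 1 ≤ c := by exact_mod_cast hkey s
    exact_mod_cast (show s.length ≤ c - 1 by omega)

variable [NoetherianSpace T]

theorem sUnion_closed {A : Set (Set T)} (hA : A ⊆ irreducibleComponents T) : IsClosed (⋃₀ A) := by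
  rw [Set.sUnion_eq_biUnion]
  exact (NoetherianSpace.finite_irreducibleComponents.subset hA).isClosed_biUnion
    fun C hC => isClosed_of_mem_irreducibleComponents C (hA hC)

theorem mem_of_subset_sUnion {A : Set (Set T)} (hA : A ⊆ irreducibleComponents T) {C : Set T}
    (hC : C ∈ irreducibleComponents T) (h : C ⊆ ⋃₀ A) : C ∈ A := by
  classical
  obtain ⟨D, hD, hCD⟩ := (isIrreducible_iff_sUnion_isClosed.1 hC.1)
    ((NoetherianSpace.finite_irreducibleComponents.subset hA).toFinset)
    (fun z hz => isClosed_of_mem_irreducibleComponents z (hA ((Set.Finite.mem_toFinset _).1 hz)))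
    (by rw [Set.Finite.coe_toFinset]; exact h)
  rw [Set.Finite.mem_toFinset] at hD
  rwa [Set.Subset.antisymm hCD (hC.2 (hA hD).1 hCD)]

theorem exists_component (x : T) : ∃ C ∈ irreducibleComponents T, x ∈ C :=
  ⟨irreducibleComponent x, irreducibleComponent_mem_irreducibleComponents x, mem_irreducibleComponent⟩

theorem sUnion_union_eq {A B : Set (Set T)} (h : A ∪ B = irreducibleComponents T) (x : T) :
    x ∈ ⋃₀ A ∨ x ∈ ⋃₀ B := by
  obtain ⟨C, hC, hx⟩ := exists_component x
  rw [← h] at hC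
  exact hC.imp (fun h => ⟨C, h, hx⟩) fun h => ⟨C, h, hx⟩

theorem connDim_le_aux {A B : Set (Set T)} (hA : A ⊆ irreducibleComponents T) (hB : B ⊆ irreducibleComponents T)
    (hcov : A ∪ B = irreducibleComponents T) (hAn : A ≠ irreducibleComponents T) (hBn : B ≠ irreducibleComponents T) :
    LocCoh.connDim T ≤ topologicalKrullDim ↥(⋃₀ A ∩ ⋃₀ B) := by
  refine iInf₂_le _ ⟨(sUnion_closed hA).inter (sUnion_closed hB), fun hconn => ?_⟩
  obtain ⟨C, hC, hCA⟩ : ∃ C ∈ irreducibleComponents T, C ∉ A :=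
    Set.not_subset.1 fun h => hAn (hA.antisymm h)
  obtain ⟨D, hD, hDB⟩ : ∃ D ∈ irreducibleComponents T, D ∉ B :=
    Set.not_subset.1 fun h => hBn (hB.antisymm h)
  obtain ⟨x, -, hx⟩ := Set.not_subset.1 fun h => hCA (mem_of_subset_sUnion hA hC h)
  obtain ⟨y, -, hy⟩ := Set.not_subset.1 fun h => hDB (mem_of_subset_sUnion hB hD h)
  obtain ⟨z, -, hzA, hzB⟩ := hconn.isPreconnected (⋃₀ A)ᶜ (⋃₀ B)ᶜ (sUnion_closed hA).isOpen_compl
    (sUnion_closed hB).isOpen_compl (fun w hw => by
      by_contra hcon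
      simp only [Set.mem_union, Set.mem_compl_iff, not_or, not_not] at hcon
      exact hw hcon)
    ⟨x, fun h => hx h.1, hx⟩ ⟨y, fun h => hy h.2, hy⟩
  exact (sUnion_union_eq hcov z).elim hzA hzB

theorem connDim_le_pair {A B : Set (Set T)} (hA : A ⊆ irreducibleComponents T) (hB : B ⊆ irreducibleComponents T)
    (hA0 : A.Nonempty) (hB0 : B.Nonempty) (hcov : A ∪ B = irreducibleComponents T) :
    LocCoh.connDim T ≤ topologicalKrullDim ↥(⋃₀ A ∩ ⋃₀ B) := by
  by_cases hAn : A = irreducibleComponents T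
  · by_cases hBn : B = irreducibleComponents T
    · have huniv : ⋃₀ A ∩ ⋃₀ B = Set.univ := Set.eq_univ_of_forall fun x => by
        subst hAn
        rw [hBn, Set.inter_self]
        obtain ⟨C, hC, hx⟩ := exists_component x
        exact ⟨C, hC, hx⟩
      rw [huniv]
      exact iInf₂_le _ ⟨isClosed_univ, fun h => by
        obtain ⟨x, hx⟩ := h.nonempty
        exact hx trivial⟩
    · have hd : (irreducibleComponents T \ B) ⊆ irreducibleComponents T := Set.sdiff_subset
      refine (connDim_le_aux hd hB ?_ ?_ hBn).trans (dim_mono fun x hx => ⟨?_, hx.2⟩)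
      · exact Set.sdiff_union_of_subset hB
      · intro h
        obtain ⟨C, hC⟩ := hB0
        exact ((h.symm ▸ hB hC : C ∈ irreducibleComponents T \ B)).2 hC
      · obtain ⟨C, hC, hxC⟩ := hx.1
        exact ⟨C, hAn.symm ▸ hC.1, hxC⟩
  · by_cases hBn : B = irreducibleComponents T
    · have hd : (irreducibleComponents T \ A) ⊆ irreducibleComponents T := Set.sdiff_subset
      refine (connDim_le_aux hA hd ?_ hAn ?_).trans (dim_mono fun x hx => ⟨hx.1, ?_⟩)
      · exact Set.union_sdiff_cancel hA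
      · intro h
        obtain ⟨C, hC⟩ := hA0
        exact ((h.symm ▸ hA hC : C ∈ irreducibleComponents T \ A)).2 hC
      · obtain ⟨C, hC, hxC⟩ := hx.2
        exact ⟨C, hBn.symm ▸ hC.1, hxC⟩
    · exact connDim_le_aux hA hB hcov hAn hBn

theorem pair_le [Nonempty T] {Z : Set T} (hZc : IsClosed Z) (hZ : ¬ IsConnected Zᶜ) :
    ∃ A B : Set (Set T), (A ⊆ irreducibleComponents T ∧ B ⊆ irreducibleComponents T ∧ A.Nonempty ∧ B.Nonempty ∧
      A ∪ B = irreducibleComponents T) ∧ ⋃₀ A ∩ ⋃₀ B ⊆ Z := by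
  rcases Zᶜ.eq_empty_or_nonempty with he | hne
  · obtain ⟨C, hC, -⟩ := exists_component (Classical.arbitrary T)
    exact ⟨_, _, ⟨subset_rfl, subset_rfl, ⟨C, hC⟩, ⟨C, hC⟩, Set.union_self _⟩,
      fun x _ => not_not.1 fun hx => (Set.eq_empty_iff_forall_notMem.1 he x) hx⟩
  have hpre : ¬ IsPreconnected Zᶜ := fun h => hZ ⟨hne, h⟩
  simp only [IsPreconnected, not_forall] at hpre
  obtain ⟨U, V, hU, hV, hcov, ⟨a, ha⟩, ⟨b, hb⟩, hemp⟩ := hpre
  let A := {C ∈ irreducibleComponents T | C ∩ Zᶜ ⊆ U}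
  let B := {C ∈ irreducibleComponents T | C ∩ Zᶜ ⊆ V}
  have hor : ∀ C ∈ irreducibleComponents T, C ∈ A ∨ C ∈ B := by
    intro C hC
    by_contra hcon
    simp only [A, B, not_or, Set.mem_ofPred_eq, not_and] at hcon
    obtain ⟨x, hx, hxU⟩ := Set.not_subset.1 (hcon.1 hC)
    obtain ⟨y, hy, hyV⟩ := Set.not_subset.1 (hcon.2 hC)
    obtain ⟨z, hzC, ⟨hzZ, hzV⟩, hzU⟩ := hC.1.2 (Zᶜ ∩ V) (Zᶜ ∩ U) (hZc.isOpen_compl.inter hV)
      (hZc.isOpen_compl.inter hU) ⟨x, hx.1, hx.2, (hcov hx.2).resolve_left hxU⟩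
      ⟨y, hy.1, hy.2, (hcov hy.2).resolve_right hyV⟩
    exact hemp ⟨z, hzZ, hzU.2, hzV⟩
  refine ⟨A, B, ⟨fun C hC => hC.1, fun C hC => hC.1, ?_, ?_, ?_⟩, ?_⟩
  · obtain ⟨C, hC, haC⟩ := exists_component a
    refine ⟨C, (hor C hC).resolve_right fun hB => ?_⟩
    exact hemp ⟨a, ha.1, ha.2, hB.2 ⟨haC, ha.1⟩⟩
  · obtain ⟨C, hC, hbC⟩ := exists_component b
    refine ⟨C, (hor C hC).resolve_left fun hA => ?_⟩
    exact hemp ⟨b, hb.1, hA.2 ⟨hbC, hb.1⟩, hb.2⟩
  · exact Set.Subset.antisymm (Set.union_subset (fun C hC => hC.1) fun C hC => hC.1) hor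
  · rintro x ⟨⟨C, hC, hxC⟩, ⟨D, hD, hxD⟩⟩
    by_contra hx
    exact hemp ⟨x, hx, hC.2 ⟨hxC, hx⟩, hD.2 ⟨hxD, hx⟩⟩

theorem connDim_eq_iInf [Nonempty T] : LocCoh.connDim T = ⨅ (A : Set (Set T)) (B : Set (Set T))
    (_ : A ⊆ irreducibleComponents T ∧ B ⊆ irreducibleComponents T ∧ A.Nonempty ∧ B.Nonempty ∧
      A ∪ B = irreducibleComponents T), topologicalKrullDim ↥(⋃₀ A ∩ ⋃₀ B) := by
  refine le_antisymm (le_iInf fun A => le_iInf fun B => le_iInf fun h =>
    connDim_le_pair h.1 h.2.1 h.2.2.1 h.2.2.2.1 h.2.2.2.2) (le_iInf₂ fun Z hZ => ?_)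
  obtain ⟨A, B, h, hsub⟩ := pair_le hZ.1 hZ.2
  exact le_trans (iInf_le_of_le A (iInf_le_of_le B (iInf_le _ h))) (dim_mono hsub)

/-- A single component bounds the connectedness dimension. -/
theorem connDim_le_component [Nonempty T] {C : Set T} (hC : C ∈ irreducibleComponents T) :
    LocCoh.connDim T ≤ topologicalKrullDim C := by
  have := connDim_le_pair (T := T) (A := {C}) (B := irreducibleComponents T) (Set.singleton_subset_iff.2 hC)
    subset_rfl (Set.singleton_nonempty C) ⟨C, hC⟩ (Set.union_eq_right.2 (Set.singleton_subset_iff.2 hC))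
  exact this.trans (dim_mono (by rw [Set.sUnion_singleton]; exact Set.inter_subset_left))

theorem exists_subdim [Nonempty T] : ∃ C ∈ irreducibleComponents T, LocCoh.subdim T = topologicalKrullDim C := by
  obtain ⟨C, hC, -⟩ := exists_component (Classical.arbitrary T)
  obtain ⟨D, hD, hmin⟩ := Set.exists_min_image _ (fun C : Set T => topologicalKrullDim C)
    NoetherianSpace.finite_irreducibleComponents ⟨C, hC⟩
  exact ⟨D, hD, le_antisymm (iInf₂_le D hD) (le_iInf₂ hmin)⟩

theorem connDim_le_subdim [Nonempty T] : LocCoh.connDim T ≤ LocCoh.subdim T :=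
  le_iInf₂ fun _ hC => connDim_le_component hC

/-- A disjoint pair computing the connectedness dimension, for a reducible space. -/
theorem exists_disjoint_pair [Nonempty T] (h : (irreducibleComponents T).Nontrivial) :
    ∃ A : Set (Set T), A ⊆ irreducibleComponents T ∧ A.Nonempty ∧ (irreducibleComponents T \ A).Nonempty ∧
      LocCoh.connDim T = topologicalKrullDim ↥(⋃₀ A ∩ ⋃₀ (irreducibleComponents T \ A)) := by
  let cand : Set (Set (Set T)) :=
    {A | A ⊆ irreducibleComponents T ∧ A.Nonempty ∧ (irreducibleComponents T \ A).Nonempty}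
  obtain ⟨C, hC, D, hD, hCD⟩ := h
  have hcand : ({C} : Set (Set T)) ∈ cand :=
    ⟨Set.singleton_subset_iff.2 hC, Set.singleton_nonempty C, ⟨D, hD, fun h => hCD (Set.mem_singleton_iff.1 h).symm⟩⟩
  have hfin : cand.Finite := NoetherianSpace.finite_irreducibleComponents.finite_subsets.subset fun A hA => hA.1
  obtain ⟨A, hA, hmin⟩ := Set.exists_min_image cand
    (fun A => topologicalKrullDim ↥(⋃₀ A ∩ ⋃₀ (irreducibleComponents T \ A))) hfin ⟨_, hcand⟩
  refine ⟨A, hA.1, hA.2.1, hA.2.2, le_antisymm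
    (connDim_le_pair hA.1 Set.sdiff_subset hA.2.1 hA.2.2 (Set.union_sdiff_cancel hA.1)) ?_⟩
  rw [connDim_eq_iInf]
  refine le_iInf fun P => le_iInf fun Q => le_iInf fun ⟨hP, hQ, hP0, hQ0, hcov⟩ => ?_
  by_cases hPn : P = irreducibleComponents T
  · by_cases hQn : Q = irreducibleComponents T
    · refine (hmin _ hcand).trans (dim_mono fun x _ => ?_)
      rw [hPn, hQn, Set.inter_self]
      obtain ⟨E, hE, hx⟩ := exists_component x
      exact ⟨E, hE, hx⟩
    · refine (hmin Q ⟨hQ, hQ0, Set.sdiff_nonempty.2 fun h => hQn (hQ.antisymm h)⟩).trans (dim_mono fun x hx => ?_)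
      refine ⟨?_, hx.1⟩
      obtain ⟨E, hE, hxE⟩ := hx.2
      exact ⟨E, hPn.symm ▸ hE.1, hxE⟩
  · refine (hmin P ⟨hP, hP0, Set.sdiff_nonempty.2 fun h => hPn (hP.antisymm h)⟩).trans
      (dim_mono (Set.inter_subset_inter_right _ (Set.sUnion_subset_sUnion ?_)))
    intro E hE
    exact ((hcov.symm ▸ hE.1 : E ∈ P ∪ Q)).resolve_left hE.2

theorem connDim_eq_of_irreducible [Nonempty T] {C : Set T} (h : irreducibleComponents T = {C}) :
    LocCoh.connDim T = topologicalKrullDim C := by
  refine le_antisymm (connDim_le_component (h ▸ Set.mem_singleton C)) ?_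
  rw [connDim_eq_iInf]
  refine le_iInf fun P => le_iInf fun Q => le_iInf fun ⟨hP, hQ, hP0, hQ0, _⟩ => le_of_eq ?_
  rw [h] at hP hQ
  rw [(Set.subset_singleton_iff_eq.1 hP).resolve_left hP0.ne_empty,
    (Set.subset_singleton_iff_eq.1 hQ).resolve_left hQ0.ne_empty, Set.sUnion_singleton, Set.inter_self]

theorem connDim_lt_subdim [Nonempty T] (hfin : topologicalKrullDim T < ⊤) (h : (irreducibleComponents T).Nontrivial) :
    LocCoh.connDim T < LocCoh.subdim T := by
  obtain ⟨C, hC, hsub⟩ := exists_subdim (T := T)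
  obtain ⟨D, hD, hDC⟩ := h.exists_ne C
  have hd : irreducibleComponents T \ {C} ⊆ irreducibleComponents T := Set.sdiff_subset
  refine lt_of_le_of_lt (connDim_le_pair (A := {C}) (B := irreducibleComponents T \ {C})
    (Set.singleton_subset_iff.2 hC) hd (Set.singleton_nonempty C) ⟨D, hD, hDC⟩
    (Set.union_sdiff_cancel (Set.singleton_subset_iff.2 hC))) ?_
  rw [hsub, Set.sUnion_singleton]
  refine dim_lt hC.1 ((isClosed_of_mem_irreducibleComponents C hC).inter (sUnion_closed hd))
    Set.inter_subset_left (fun he => ?_) (lt_of_le_of_lt (topologicalKrullDim_subspace_le T C) hfin)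
  exact (mem_of_subset_sUnion hd hC (fun x hx => (he.symm ▸ hx : x ∈ C ∩ ⋃₀ _).2)).2 rfl

theorem nontrivial_or_singleton [Nonempty T] :
    (irreducibleComponents T).Nontrivial ∨ ∃ C, irreducibleComponents T = {C} := by
  obtain ⟨C, hC, -⟩ := exists_component (Classical.arbitrary T)
  rcases (irreducibleComponents T).subsingleton_or_nontrivial with h | h
  · exact Or.inr ⟨C, h.eq_singleton_of_mem hC⟩
  · exact Or.inl h

theorem irreducibleSpace_iff [Nonempty T] :
    IrreducibleSpace T ↔ ∃ C, irreducibleComponents T = {C} := by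
  constructor
  · intro h
    exact ⟨Set.univ, by rw [irreducibleComponents_eq_singleton]⟩
  · rintro ⟨C, hC⟩
    have hCu : C = Set.univ := Set.eq_univ_of_forall fun x => by
      obtain ⟨D, hD, hx⟩ := exists_component x
      rw [hC] at hD
      rwa [Set.mem_singleton_iff.1 hD] at hx
    have hCi : IsIrreducible C := (hC.symm ▸ Set.mem_singleton C : C ∈ irreducibleComponents T).1
    rw [hCu] at hCi
    exact (irreducibleSpace_def T).2 hCi

end HLVTLib.Conn
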