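import Groth.Agent.HLVTLib.Domain
import Groth.Agent.LocCohLib.NonVanishing
import Groth.Agent.CohenLib.FlatUnramified
import Mathlib.RingTheory.Ideal.AssociatedPrime.Finiteness
import Mathlib.RingTheory.AdicCompletion.LocalRing
import Mathlib.RingTheory.AdicCompletion.AsTensorProduct
import Mathlib.RingTheory.Flat.FaithfullyFlat.Basic
import Mathlib.LinearAlgebra.Dual.Lemmas

/-!
# The Hartshorne-Lichtenbaum vanishing theorem
-/

set_option autoImplicit false
set_option linter.style.haveILetI false
set_option linter.unusedSectionVars false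
set_option maxHeartbeats 800000

universe u

open IsLocalRing LocCohLib

noncomputable section

namespace HLVTLib

variable {R : Type u} [CommRing R] [IsNoetherianRing R]

/-- Reduction to the quotients by primes. -/
theorem subsingleton_H_of_primes (I : Ideal R) (d : ℕ)
    (h : ∀ p : PrimeSpectrum R, Subsingleton (LocCoh.H I d (R ⧸ p.asIdeal))) : Subsingleton (LocCoh.H I d R) := by
  refine IsNoetherianRing.induction_on_isQuotientEquivQuotientPrime R (M := R) inferInstance
    (motive := fun N _ _ _ => Subsingleton (LocCoh.H I d N)) ?_ ?_ ?_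
  · intro N _ _ _ _
    exact subsingleton_H_of_subsingleton N d
  · intro N _ _ _ p e
    exact (subsingleton_H_congr e d).2 (h p)
  · intro N₁ _ _ _ N₂ _ _ _ N₃ _ _ _ f g hf hg hfg h₁ h₃
    exact subsingleton_H_mid f g hf hfg hg d h₁ h₃

theorem subsingleton_H_quotient_iff (I : Ideal R) (d : ℕ) (p : Ideal R) :
    Subsingleton (LocCoh.H (I.map (algebraMap R (R ⧸ p))) d (R ⧸ p)) ↔ Subsingleton (LocCoh.H I d (R ⧸ p)) := by
  obtain ⟨φ, -⟩ := exists_addEquiv_restrict (R := R) (R' := R ⧸ p) I (R ⧸ p) d
  exact φ.toEquiv.subsingleton_congr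

theorem mem_minimalPrimes_of_dim {d : ℕ} (hd : ringKrullDim R ≤ d) (p : Ideal R) [hp : p.IsPrime]
    (h : (d : WithBot ℕ∞) ≤ ringKrullDim (R ⧸ p)) : p ∈ minimalPrimes R := by
  obtain ⟨q, hq, hqp⟩ := Ideal.exists_minimalPrimes_le (I := (⊥ : Ideal R)) (J := p) bot_le
  rcases hqp.eq_or_lt with rfl | hlt
  · exact hq
  exfalso
  haveI := hq.1.1
  obtain ⟨x, hxp, hxq⟩ := SetLike.exists_of_lt hlt
  have h1 := ringKrullDim_quotient_succ_le_of_nonZeroDivisor
    (mem_nonZeroDivisors_of_ne_zero (fun h0 : Ideal.Quotient.mk q x = 0 => hxq (Ideal.Quotient.eq_zero_iff_mem.1 h0)))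
  have h2 : ringKrullDim (R ⧸ p) ≤ ringKrullDim ((R ⧸ q) ⧸ Ideal.span {Ideal.Quotient.mk q x}) :=
    ringKrullDim_le_of_surjective (Ideal.Quotient.lift _ (Ideal.Quotient.factor hqp) fun a ha => by
      obtain ⟨b, rfl⟩ := Ideal.mem_span_singleton'.1 ha
      rw [map_mul, show Ideal.Quotient.factor hqp (Ideal.Quotient.mk q x) = 0 from
        Ideal.Quotient.eq_zero_iff_mem.2 hxp, mul_zero])
      (Ideal.Quotient.lift_surjective_of_surjective _ _ (Ideal.Quotient.factor_surjective hqp))
  have h3 : ((d : WithBot ℕ∞) + 1) ≤ d :=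
    ((add_le_add_left (h.trans h2) 1).trans h1).trans ((ringKrullDim_quotient_le q).trans hd)
  have h4 : d + 1 ≤ d := by exact_mod_cast h3
  omega

theorem subsingleton_H_complete [IsLocalRing R] [IsAdicComplete (maximalIdeal R) R] {d : ℕ} (hd : ringKrullDim R = d)
    (I : Ideal R) (h : ∀ p ∈ minimalPrimes R, ringKrullDim (R ⧸ p) = d → 1 ≤ ringKrullDim (R ⧸ (I ⊔ p))) :
    Subsingleton (LocCoh.H I d R) := by
  refine subsingleton_H_of_primes I d fun p => ?_
  haveI := p.isPrime
  rw [← subsingleton_H_quotient_iff I d p.asIdeal]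
  have hle : ringKrullDim (R ⧸ p.asIdeal) ≤ d := (ringKrullDim_quotient_le _).trans hd.le
  rcases hle.eq_or_lt with he | hlt
  · haveI : IsLocalRing (R ⧸ p.asIdeal) := IsLocalRing.of_surjective' _ Ideal.Quotient.mk_surjective
    haveI : IsAdicComplete (maximalIdeal (R ⧸ p.asIdeal)) (R ⧸ p.asIdeal) :=
      AdicFSLib.isAdicComplete_of_finite_local R _
    have h1 := h p.asIdeal (mem_minimalPrimes_of_dim hd.le p.asIdeal he.ge) he
    refine subsingleton_H_domain he _ (lt_of_lt_of_le zero_lt_one ?_) _ le_rfl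
    refine h1.trans (le_of_eq (ringKrullDim_eq_of_ringEquiv ?_))
    exact ((DoubleQuot.quotQuotEquivQuotSup p.asIdeal I).trans (Ideal.quotEquivOfEq (sup_comm _ _))).symm
  · exact subsingleton_H_of_dim_lt hlt _

theorem faithfullyFlat_completion [IsLocalRing R] :
    Module.FaithfullyFlat R (AdicCompletion (maximalIdeal R) R) := by
  exact Module.FaithfullyFlat.of_flat_of_isLocalHom

/-- The Hartshorne-Lichtenbaum vanishing theorem. -/
theorem subsingleton_H_hlvt [IsLocalRing R] {d : ℕ} (hd : ringKrullDim R = d) (I : Ideal R)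
    (h : ∀ p ∈ minimalPrimes (AdicCompletion (maximalIdeal R) R),
      ringKrullDim (AdicCompletion (maximalIdeal R) R ⧸ p) = d → 1 ≤ ringKrullDim (AdicCompletion (maximalIdeal R) R ⧸
        (I.map (algebraMap R (AdicCompletion (maximalIdeal R) R)) ⊔ p)))
    (M : Type u) [AddCommGroup M] [Module R M] {i : ℕ} (hi : d ≤ i) : Subsingleton (LocCoh.H I i M) := by
  let C := AdicCompletion (maximalIdeal R) R
  haveI : IsNoetherianRing C := AdicRingLib.isNoetherianRing_adicCompletion _
  haveI := faithfullyFlat_completion (R := R)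
  have hdC : ringKrullDim C = d :=
    (CohenLib.ringKrullDim_adicCompletion R _ (maximalIdeal.isMaximal R).ne_top).trans hd
  have h1 := subsingleton_H_of_ring hdC.le (subsingleton_H_complete hdC _ h) (TensorProduct R C R) (le_refl d)
  haveI : Subsingleton (TensorProduct R C (LocCoh.H I d R)) := (tensLcEquiv I R d).injective.subsingleton
  exact subsingleton_H_of_ring hd.le (Module.FaithfullyFlat.lTensor_reflects_triviality R C _) M hi

/-- The converse. -/
theorem one_le_dim_of_subsingleton_H [IsLocalRing R] {n : ℕ} (hn : ringKrullDim R ≤ n) (a : Ideal R) (ha : a ≠ ⊤)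
    (hvan : Subsingleton (LocCoh.H a n R)) {C : Type u} [CommRing C] [IsNoetherianRing C] [IsLocalRing C]
    [Algebra R C] [IsLocalHom (algebraMap R C)] (P : Ideal C) [P.IsPrime] (hP : ringKrullDim (C ⧸ P) = n) :
    1 ≤ ringKrullDim (C ⧸ (a.map (algebraMap R C) ⊔ P)) := by
  set J := a.map (algebraMap R C) ⊔ P
  have hJm : J ≤ maximalIdeal C := by
    refine sup_le (Ideal.map_le_iff_le_comap.2 fun x hx => ?_) (le_maximalIdeal (Ideal.IsPrime.ne_top ‹_›))
    exact map_nonunit (algebraMap R C) x (le_maximalIdeal ha hx)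
  by_contra hcon
  have hrad : ∀ Q : Ideal C, Q.IsPrime → J ≤ Q → Q = maximalIdeal C := fun Q hQ hJQ =>
    by_contra fun hQm => hcon (haveI := hQ
      one_le_dim hJQ (lt_of_le_of_ne (le_maximalIdeal hQ.ne_top) hQm))
  haveI : IsLocalRing (C ⧸ P) := IsLocalRing.of_surjective' _ Ideal.Quotient.mk_surjective
  letI : Algebra R (C ⧸ P) := ((Ideal.Quotient.mk P).comp (algebraMap R C)).toAlgebra
  have h1 := subsingleton_H_map (S := C ⧸ P) hn hvan (C ⧸ P) (le_refl n)
  have h2 : (a.map (algebraMap R (C ⧸ P))).radical = (maximalIdeal (C ⧸ P)).radical := by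
    rw [RingHom.algebraMap_toAlgebra, ← Ideal.map_map]
    refine le_antisymm (Ideal.radical_mono ?_) (Ideal.radical_le_radical_iff.2 ?_)
    · refine le_maximalIdeal fun htop => ?_
      have h3 := congrArg (Ideal.comap (Ideal.Quotient.mk P)) htop
      rw [Ideal.comap_map_of_surjective _ Ideal.Quotient.mk_surjective, ← RingHom.ker_eq_comap_bot, Ideal.mk_ker,
        Ideal.comap_top] at h3
      exact (maximalIdeal.isMaximal C).ne_top (top_le_iff.1 (h3.ge.trans hJm))
    · rw [Ideal.radical_eq_sInf]
      refine le_sInf fun Q ⟨hQ, hQp⟩ => ?_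
      haveI := hQp
      have hQ' : Q.comap (Ideal.Quotient.mk P) = maximalIdeal C := hrad _ inferInstance
        (sup_le (Ideal.map_le_iff_le_comap.1 hQ) fun x hx => by
          rw [Ideal.mem_comap, Ideal.Quotient.eq_zero_iff_mem.2 hx]
          exact zero_mem _)
      intro y hy
      obtain ⟨x, rfl⟩ := Ideal.Quotient.mk_surjective y
      refine hQ'.ge ?_
      exact fun hu => hy (hu.map (Ideal.Quotient.mk P))
  rw [subsingleton_H_congr_radical h2] at h1
  haveI := (LocCohLib.nonvanishing n (C ⧸ P) (by rw [Module.supportDim_self_eq_ringKrullDim, hP])).1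
  exact not_subsingleton (LocCoh.H (maximalIdeal (C ⧸ P)) n (C ⧸ P)) h1

theorem exists_ne_zero_hom {A : Type u} [CommRing A] [IsDomain A] (N : Type u) [AddCommGroup N] [Module A N]
    [Module.Finite A N] (z : N) (hz : ∀ s : A, s ≠ 0 → s • z ≠ 0) : ∃ φ : N →ₗ[A] A, φ ≠ 0 := by
  let K := FractionRing A
  let NK := LocalizedModule (nonZeroDivisors A) N
  let ι := LocalizedModule.mkLinearMap (nonZeroDivisors A) N
  have hne : ι z ≠ 0 := fun h0 => by
    obtain ⟨⟨s, hs⟩, hs0⟩ := (IsLocalizedModule.eq_zero_iff (nonZeroDivisors A) ι).1 h0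
    exact hz s (nonZeroDivisors.ne_zero hs) hs0
  obtain ⟨ψ, hψ⟩ : ∃ ψ : Module.Dual K NK, ψ (ι z) ≠ 0 := by
    by_contra hc
    push Not at hc
    exact hne ((Module.forall_dual_apply_eq_zero_iff K (ι z)).1 hc)
  let h : N →ₗ[A] K := (ψ.restrictScalars A).comp ι
  obtain ⟨G, hG⟩ := (Module.Finite.fg_top : (⊤ : Submodule A N).FG)
  classical
  obtain ⟨b, hb⟩ := IsLocalization.exist_integer_multiples_of_finset (nonZeroDivisors A) (G.image h)
  have hrange : ∀ x : N, (b : A) • h x ∈ LinearMap.range (Algebra.linearMap A K) := fun x => by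
    have hx : x ∈ Submodule.span A (G : Set N) := hG ▸ Submodule.mem_top
    induction hx using Submodule.span_induction with
    | mem y hy => exact hb (h y) (Finset.mem_image_of_mem h hy)
    | zero => rw [map_zero, smul_zero]; exact zero_mem _
    | add y w _ _ hy hw => rw [map_add, smul_add]; exact add_mem hy hw
    | smul c y _ hy => rw [map_smul, smul_comm]; exact Submodule.smul_mem _ _ hy
  let e := LinearEquiv.ofInjective (Algebra.linearMap A K) (IsFractionRing.injective A K)
  refine ⟨e.symm.toLinearMap.comp (((b : A) • h).codRestrict _ hrange), fun h0 => hψ ?_⟩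
  have h1 : ((b : A) • h).codRestrict _ hrange z = 0 := e.symm.injective (by
    rw [map_zero]; exact LinearMap.congr_fun h0 z)
  have h2 : (b : A) • h z = 0 := congrArg Subtype.val h1
  rw [Algebra.smul_def] at h2
  exact (IsLocalization.map_units K b).mul_right_eq_zero.1 h2

theorem subsingleton_H_of_full_support {A : Type u} [CommRing A] [IsDomain A] [IsNoetherianRing A] {d : ℕ}
    (hd : ringKrullDim A = d) (I : Ideal A) (N : Type u) [AddCommGroup N] [Module A N] [Module.Finite A N]
    (hN : ∃ z : N, ∀ s : A, s ≠ 0 → s • z ≠ 0) (h : Subsingleton (LocCoh.H I d N)) :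
    Subsingleton (LocCoh.H I d A) := by
  obtain ⟨z, hz⟩ := hN
  obtain ⟨φ, hφ⟩ := exists_ne_zero_hom N z hz
  have hlt : ∀ (V : Type u) [AddCommGroup V] [Module A V], Subsingleton (LocCoh.H I (d + 1) V) := fun V _ _ =>
    subsingleton_H_of_dim_lt (by rw [hd]; exact_mod_cast Nat.lt_succ_self d) V
  let J : Ideal A := LinearMap.range φ
  have hJ : Subsingleton (LocCoh.H I d J) :=
    subsingleton_H_right (LinearMap.ker φ).subtype φ.rangeRestrict Subtype.val_injective
      (by
        intro x
        rw [← Subtype.coe_inj]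
        exact ⟨fun hx => ⟨⟨x, hx⟩, rfl⟩, fun ⟨y, hy⟩ => hy ▸ y.2⟩)
      φ.surjective_rangeRestrict d h (hlt _)
  refine subsingleton_H_mid J.subtype J.mkQ Subtype.val_injective (LinearMap.exact_subtype_mkQ J)
    (Submodule.mkQ_surjective J) d hJ ?_
  rw [← subsingleton_H_quotient_iff]
  refine subsingleton_H_of_dim_lt ?_ _
  obtain ⟨x, hxJ, hx0⟩ := Submodule.exists_mem_ne_zero_of_ne_bot (show J ≠ ⊥ from fun h0 =>
    hφ (LinearMap.range_eq_bot.1 h0))
  have h1 := (ringKrullDim_quotient_succ_le_of_nonZeroDivisor (mem_nonZeroDivisors_of_ne_zero hx0)).trans hd.le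
  have h2 : ringKrullDim (A ⧸ J) ≤ ringKrullDim (A ⧸ Ideal.span {x}) :=
    ringKrullDim_le_of_surjective (Ideal.Quotient.factor ((Ideal.span_singleton_le_iff_mem _).2 hxJ))
      (Ideal.Quotient.factor_surjective _)
  by_contra hcon
  have h3 : ((d : WithBot ℕ∞) + 1) ≤ d := (add_le_add_left ((not_lt.1 hcon).trans h2) 1).trans h1
  have h4 : d + 1 ≤ d := by exact_mod_cast h3
  omega

theorem subsingleton_H_of_support {d : ℕ} (hd : ringKrullDim R = d) (I : Ideal R) (M : Type u) [AddCommGroup M]
    [Module R M] [Module.Finite R M]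
    (hsupp : ∀ p ∈ minimalPrimes R, ringKrullDim (R ⧸ p) = d → ∀ hp : p.IsPrime, (⟨p, hp⟩ : PrimeSpectrum R) ∈ Module.support R M)
    (hvan : Subsingleton (LocCoh.H I d M)) : Subsingleton (LocCoh.H I d R) := by
  refine subsingleton_H_of_primes I d fun p => ?_
  haveI := p.isPrime
  rw [← subsingleton_H_quotient_iff I d p.asIdeal]
  have hle : ringKrullDim (R ⧸ p.asIdeal) ≤ d := (ringKrullDim_quotient_le _).trans hd.le
  rcases hle.eq_or_lt with he | hlt
  · have hmem := hsupp p.asIdeal (mem_minimalPrimes_of_dim hd.le p.asIdeal he.ge) he p.isPrime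
    let L : Submodule R M := p.asIdeal • ⊤
    refine subsingleton_H_of_full_support he _ (M ⧸ L) ?_ ?_
    · by_contra hcon
      push Not at hcon
      rw [Module.mem_support_iff] at hmem
      obtain ⟨G, hG⟩ := (Module.Finite.fg_top : (⊤ : Submodule R M).FG)
      apply not_subsingleton (LocalizedModule p.asIdeal.primeCompl M)
      have htop : (⊤ : Submodule (Localization.AtPrime p.asIdeal) (LocalizedModule p.asIdeal.primeCompl M)) ≤
          maximalIdeal (Localization.AtPrime p.asIdeal) • ⊤ := fun v _ => by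
        obtain ⟨⟨m, s⟩, rfl⟩ := IsLocalizedModule.mk'_surjective p.asIdeal.primeCompl
          (LocalizedModule.mkLinearMap p.asIdeal.primeCompl M) v
        obtain ⟨t, ht0, ht⟩ := hcon (Submodule.Quotient.mk m)
        obtain ⟨r, rfl⟩ := Ideal.Quotient.mk_surjective t
        have hrp : r ∉ p.asIdeal := fun hr => ht0 (Ideal.Quotient.eq_zero_iff_mem.2 hr)
        rw [← Ideal.Quotient.algebraMap_eq, algebraMap_smul, ← Submodule.Quotient.mk_smul,
          Submodule.Quotient.mk_eq_zero] at ht
        let u : p.asIdeal.primeCompl := ⟨r, hrp⟩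
        rw [show Function.uncurry (IsLocalizedModule.mk' (LocalizedModule.mkLinearMap p.asIdeal.primeCompl M)) (m, s) =
          LocalizedModule.mk (r • m) (u * s) from ?_]
        · refine Submodule.smul_induction_on ht (fun a ha w _ => ?_) (fun a b ha hb => ?_)
          · rw [← LocalizedModule.smul'_mk, ← algebraMap_smul (Localization.AtPrime p.asIdeal) a]
            refine Submodule.smul_mem_smul ?_ trivial
            rw [← Localization.AtPrime.map_eq_maximalIdeal]
            exact Ideal.mem_map_of_mem _ ha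
          · have : LocalizedModule.mk (a + b) (u * s) = LocalizedModule.mk a (u * s) + LocalizedModule.mk b (u * s) := by
              rw [LocalizedModule.mk_add_mk, ← smul_add, LocalizedModule.mk_cancel_common_left]
            rw [this]
            exact add_mem ha hb
        · show IsLocalizedModule.mk' (LocalizedModule.mkLinearMap p.asIdeal.primeCompl M) m s = _
          rw [← IsLocalizedModule.mk_eq_mk']
          exact (LocalizedModule.mk_cancel_common_left u s m).symm
      haveI : Module.Finite (Localization.AtPrime p.asIdeal) (LocalizedModule p.asIdeal.primeCompl M) :=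
        Module.Finite.of_isLocalizedModule p.asIdeal.primeCompl (LocalizedModule.mkLinearMap p.asIdeal.primeCompl M)
      have hbot := Submodule.eq_bot_of_le_smul_of_le_jacobson_bot _ _ Module.Finite.fg_top htop
        (IsLocalRing.jacobson_eq_maximalIdeal ⊥ bot_ne_top).ge
      exact (Submodule.subsingleton_iff _).1 (subsingleton_of_bot_eq_top hbot.symm)
    · obtain ⟨φ, -⟩ := exists_addEquiv_restrict (R := R) (R' := R ⧸ p.asIdeal) I (M ⧸ L) d
      refine φ.toEquiv.subsingleton_congr.2 ?_
      exact subsingleton_H_right L.subtype L.mkQ Subtype.val_injective (LinearMap.exact_subtype_mkQ L)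
        (Submodule.mkQ_surjective L) d hvan
        (subsingleton_H_of_dim_lt (by rw [hd]; exact_mod_cast Nat.lt_succ_self d) _)
  · exact subsingleton_H_of_dim_lt hlt _

end HLVTLib
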