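import Groth.Agent.HLVTLib.Conn
import Groth.Agent.DualCxLib.TopExt

/-!
# Connectedness bounds
-/

set_option autoImplicit false
set_option linter.style.haveILetI false
set_option linter.unusedSectionVars false
set_option maxHeartbeats 400000

universe u

open IsLocalRing LocCohLib

noncomputable section

namespace HLVTLib

variable {R : Type u} [CommRing R] [IsLocalRing R] [IsNoetherianRing R]

theorem exists_minimal_dim_sup {a : Ideal R} (ha : a ≠ ⊤) :
    ∃ p ∈ minimalPrimes R, ringKrullDim (R ⧸ a) ≤ ringKrullDim (R ⧸ (a ⊔ p)) := by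
  obtain ⟨P, hP, haP, hd⟩ := exists_prime_dim ha
  obtain ⟨p, hp, hpP⟩ := Ideal.exists_minimalPrimes_le (I := (⊥ : Ideal R)) (J := P) bot_le
  exact ⟨p, hp, hd.ge.trans (dim_anti (sup_le haP hpP))⟩

theorem exists_mem_of_sInf_le {S : Set (Ideal R)} (hS : S ⊆ minimalPrimes R) {P : Ideal R} [hP : P.IsPrime]
    (h : sInf S ≤ P) : ∃ p ∈ S, p ≤ P := by
  have hf := (minimalPrimes.finite_of_isNoetherianRing R).subset hS
  obtain ⟨p, hp, hle⟩ := hP.inf_le'.1 (show hf.toFinset.inf id ≤ P from le_trans (le_sInf fun p hp =>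
    Finset.inf_le (f := id) (hf.mem_toFinset.2 hp)) h)
  exact ⟨p, hf.mem_toFinset.1 hp, hle⟩

variable [IsAdicComplete (maximalIdeal R) R]

theorem dim_le_component {a b : Ideal R} (ha : a ≠ ⊤) (hb : b ≠ ⊤) {δ k : ℕ} (hδ : ringKrullDim (R ⧸ (a ⊔ b)) = δ)
    (hk : LocCoh.CdLE R (a ⊓ b) k) (p : Ideal R) [p.IsPrime] (hpa : (δ : WithBot ℕ∞) < ringKrullDim (R ⧸ (a ⊔ p)))
    (hpb : (δ : WithBot ℕ∞) < ringKrullDim (R ⧸ (b ⊔ p))) : ringKrullDim (R ⧸ p) ≤ (δ + k + 1 : ℕ) := by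
  let A := R ⧸ p
  haveI : IsLocalRing A := IsLocalRing.of_surjective' _ Ideal.Quotient.mk_surjective
  haveI : IsAdicComplete (maximalIdeal A) A := AdicFSLib.isAdicComplete_of_finite_local R _
  let a' := a.map (Ideal.Quotient.mk p)
  let b' := b.map (Ideal.Quotient.mk p)
  have hq : ∀ c : Ideal R, ringKrullDim (A ⧸ c.map (Ideal.Quotient.mk p)) = ringKrullDim (R ⧸ (c ⊔ p)) := fun c =>
    ringKrullDim_eq_of_ringEquiv ((DoubleQuot.quotQuotEquivQuotSup p c).trans (Ideal.quotEquivOfEq (sup_comm _ _)))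
  have hne : ∀ c : Ideal R, c ≠ ⊤ → c.map (Ideal.Quotient.mk p) ≠ ⊤ := fun c hc h => by
    have h1 := congrArg (Ideal.comap (Ideal.Quotient.mk p)) h
    rw [Ideal.comap_map_of_surjective _ Ideal.Quotient.mk_surjective, ← RingHom.ker_eq_comap_bot, Ideal.mk_ker,
      Ideal.comap_top] at h1
    exact (maximalIdeal.isMaximal R).ne_top (top_le_iff.1 (h1 ▸ sup_le (le_maximalIdeal hc) (le_maximalIdeal (Ideal.IsPrime.ne_top ‹_›))))
  obtain ⟨n, hn⟩ := exists_dim_nat (Ideal.IsPrime.ne_top ‹p.IsPrime›)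
  obtain ⟨δ', hδ'⟩ := exists_dim_nat (R := A) (I := a' ⊔ b') (by
    rw [show a' ⊔ b' = (a ⊔ b).map (Ideal.Quotient.mk p) from (Ideal.map_sup _ _ _).symm]
    exact hne _ fun h => (maximalIdeal.isMaximal R).ne_top
      (top_le_iff.1 (h ▸ sup_le (le_maximalIdeal ha) (le_maximalIdeal hb))))
  have hle : δ' ≤ δ := by
    have h1 : ringKrullDim (A ⧸ (a' ⊔ b')) ≤ δ := by
      rw [show a' ⊔ b' = (a ⊔ b).map (Ideal.Quotient.mk p) from (Ideal.map_sup _ _ _).symm, hq, ← hδ]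
      exact dim_anti le_sup_left
    rw [hδ'] at h1
    exact_mod_cast h1
  have hk' : LocCoh.CdLE A (a' ⊓ b') k := by
    refine cdLE_congr ?_ (cdLE_map (R' := A) hk)
    refine le_antisymm (Ideal.radical_mono (Ideal.map_inf_le _)) ?_
    rw [Ideal.radical_inf, ← Ideal.radical_mul, ← Ideal.map_mul]
    exact Ideal.radical_mono (Ideal.map_mono Ideal.mul_le_inf)
  have hlt : (δ' : WithBot ℕ∞) < min (ringKrullDim (A ⧸ a')) (ringKrullDim (A ⧸ b')) := by
    rw [hq, hq]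
    exact lt_of_le_of_lt (by exact_mod_cast hle) (lt_min hpa hpb)
  have := dim_le_of_domain hn δ' a' b' (hne a ha) (hne b hb) hδ' hlt k hk'
  rw [hn]
  exact_mod_cast (show n ≤ δ + k + 1 by omega)

theorem min_le_of_cd {a b : Ideal R} (ha : a ≠ ⊤) (hb : b ≠ ⊤) {δ k : ℕ} (hδ : ringKrullDim (R ⧸ (a ⊔ b)) = δ)
    (hlt : (δ : WithBot ℕ∞) < min (ringKrullDim (R ⧸ a)) (ringKrullDim (R ⧸ b))) (hk : LocCoh.CdLE R (a ⊓ b) k) :
    min (LocCoh.connDim (PrimeSpectrum R) + 1) (LocCoh.subdim (PrimeSpectrum R)) ≤ (δ + k + 1 : ℕ) := by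
  let A := {p ∈ minimalPrimes R | (δ : WithBot ℕ∞) < ringKrullDim (R ⧸ (a ⊔ p))}
  let B := {p ∈ minimalPrimes R | (δ : WithBot ℕ∞) < ringKrullDim (R ⧸ (b ⊔ p))}
  by_cases hAB : ∃ p ∈ A, p ∈ B
  · obtain ⟨p, hpA, hpB⟩ := hAB
    haveI := hpA.1.1.1
    exact (min_le_right _ _).trans ((Conn.subdim_le p hpA.1).trans (dim_le_component ha hb hδ hk p hpA.2 hpB.2))
  push Not at hAB
  obtain ⟨p₀, hp₀, hp₀d⟩ := exists_minimal_dim_sup ha
  obtain ⟨q₀, hq₀, hq₀d⟩ := exists_minimal_dim_sup hb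
  have hp₀A : p₀ ∈ A := ⟨hp₀, (lt_min_iff.1 hlt).1.trans_le hp₀d⟩
  have hq₀B : q₀ ∈ B := ⟨hq₀, (lt_min_iff.1 hlt).2.trans_le hq₀d⟩
  have hsub : A ⊆ minimalPrimes R := fun p hp => hp.1
  have hc : LocCoh.connDim (PrimeSpectrum R) ≤ (δ + k : ℕ) := by
    refine (Conn.connDim_le_primes hsub (S' := minimalPrimes R \ A) Set.sdiff_subset ⟨p₀, hp₀A⟩
      ⟨q₀, hq₀, fun h => hAB q₀ h hq₀B⟩ (Set.union_sdiff_cancel hsub)).trans ?_
    have hne : sInf A ⊔ sInf (minimalPrimes R \ A) ≠ ⊤ := fun h => (maximalIdeal.isMaximal R).ne_top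
      (top_le_iff.1 (h ▸ sup_le ((sInf_le hp₀A).trans (le_maximalIdeal hp₀.1.1.ne_top))
        ((sInf_le ⟨hq₀, fun h => hAB q₀ h hq₀B⟩ : sInf (minimalPrimes R \ A) ≤ q₀).trans (le_maximalIdeal hq₀.1.1.ne_top))))
    obtain ⟨P, hP, hle, hPd⟩ := exists_prime_dim hne
    rw [← hPd]
    obtain ⟨p, hp, hpP⟩ := exists_mem_of_sInf_le hsub (le_sup_left.trans hle)
    obtain ⟨q, hq, hqP⟩ := exists_mem_of_sInf_le Set.sdiff_subset (le_sup_right.trans hle)
    have hne' : a ⊓ b ≠ ⊤ := fun h => ha (top_le_iff.1 (h ▸ inf_le_left))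
    have hbP : ringKrullDim (R ⧸ (b ⊔ P)) ≤ δ := by
      refine (dim_anti (sup_le_sup_left hpP b)).trans (not_lt.1 fun h => hAB p hp ⟨hsub hp, h⟩)
    have haP : ringKrullDim (R ⧸ (a ⊔ P)) ≤ δ :=
      (dim_anti (sup_le_sup_left hqP a)).trans (not_lt.1 fun h => hq.2 ⟨hq.1, h⟩)
    have hI : ringKrullDim (R ⧸ (a ⊓ b ⊔ P)) ≤ δ := by
      obtain ⟨Q, hQ, hQle, hQd⟩ := exists_prime_dim (I := a ⊓ b ⊔ P) fun h => (maximalIdeal.isMaximal R).ne_top
        (top_le_iff.1 (h ▸ sup_le (inf_le_left.trans (le_maximalIdeal ha)) (le_maximalIdeal hP.ne_top)))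
      rw [← hQd]
      rcases hQ.inf_le.1 (le_sup_left.trans hQle) with h | h
      · exact (dim_anti (sup_le h (le_sup_right.trans hQle))).trans haP
      · exact (dim_anti (sup_le h (le_sup_right.trans hQle))).trans hbP
    rw [add_comm δ k]
    exact dim_le_cd_add hk P hne' hI
  refine (min_le_left _ _).trans ((add_le_add hc le_rfl).trans (le_of_eq ?_))
  norm_cast

theorem min_le_ara {a : Ideal R} (ha : a ≠ ⊤) (s : Finset R) (hs : (Ideal.span (s : Set R)).radical = a.radical) :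
    min (LocCoh.connDim (PrimeSpectrum R) + 1) (LocCoh.subdim (PrimeSpectrum R)) ≤
      LocCoh.connDim (PrimeSpectrum (R ⧸ a)) + (s.card : WithBot ℕ∞) + 1 := by
  haveI : Nontrivial (R ⧸ a) := Ideal.Quotient.nontrivial_iff.2 ha
  haveI : IsLocalRing (R ⧸ a) := IsLocalRing.of_surjective' _ Ideal.Quotient.mk_surjective
  have hk : LocCoh.CdLE R a s.card := cdLE_congr hs (cdLE_span s)
  rcases Conn.nontrivial_or_eq_singleton (R := R ⧸ a) with hnt | ⟨q, hq⟩
  · obtain ⟨S, hS, ⟨x, hx⟩, ⟨y, hy⟩, hc⟩ := Conn.exists_primes_connDim hnt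
    let a₁ := (sInf S).comap (Ideal.Quotient.mk a)
    let b₁ := (sInf (minimalPrimes (R ⧸ a) \ S)).comap (Ideal.Quotient.mk a)
    have hle : ∀ J : Ideal (R ⧸ a), a ≤ J.comap (Ideal.Quotient.mk a) := fun J w hw => by
      rw [Ideal.mem_comap, Ideal.Quotient.eq_zero_iff_mem.2 hw]
      exact zero_mem _
    have hab : (sInf S ⊔ sInf (minimalPrimes (R ⧸ a) \ S)).comap (Ideal.Quotient.mk a) = a₁ ⊔ b₁ := by
      rw [← Ideal.map_comap_of_surjective _ Ideal.Quotient.mk_surjective (sInf S),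
        ← Ideal.map_comap_of_surjective _ Ideal.Quotient.mk_surjective (sInf (minimalPrimes (R ⧸ a) \ S)),
        ← Ideal.map_sup, Ideal.comap_map_of_surjective _ Ideal.Quotient.mk_surjective, ← RingHom.ker_eq_comap_bot,
        Ideal.mk_ker]
      exact sup_eq_left.2 ((hle _).trans le_sup_left)
    have hdim : ∀ J : Ideal (R ⧸ a), ringKrullDim (R ⧸ J.comap (Ideal.Quotient.mk a)) = ringKrullDim ((R ⧸ a) ⧸ J) :=
      fun J => Groth.Agent.DualCxLib.ringKrullDim_quotient_comap (S := R) Ideal.Quotient.mk_surjective J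
    have hne : ∀ (T : Set (Ideal (R ⧸ a))), T ⊆ minimalPrimes (R ⧸ a) → ∀ t ∈ T,
        (sInf T).comap (Ideal.Quotient.mk a) ≠ ⊤ := fun T hT t ht h => (hT ht).1.1.ne_top (by
      rw [Ideal.comap_eq_top_iff] at h
      exact top_le_iff.1 (h ▸ sInf_le ht))
    have hna₁ := hne S hS x hx
    have hnb₁ := hne _ Set.sdiff_subset y hy
    obtain ⟨δ, hδ⟩ := exists_dim_nat (I := a₁ ⊔ b₁) fun h => (maximalIdeal.isMaximal R).ne_top
      (top_le_iff.1 (h ▸ sup_le (le_maximalIdeal hna₁) (le_maximalIdeal hnb₁)))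
    have hcδ : LocCoh.connDim (PrimeSpectrum (R ⧸ a)) = δ := by rw [hc, ← hdim, hab, hδ]
    have key : ∀ (T T' : Set (Ideal (R ⧸ a))), T ⊆ minimalPrimes (R ⧸ a) → T' ⊆ minimalPrimes (R ⧸ a) →
        (∀ t ∈ T, t ∉ T') → ∀ t ∈ T, ∀ u ∈ T',
        ringKrullDim ((R ⧸ a) ⧸ (sInf T ⊔ sInf T')) < ringKrullDim ((R ⧸ a) ⧸ sInf T) := by
      intro T T' hT hT' hdisj t ht u hu
      obtain ⟨P, hP, hle', hPd⟩ := exists_prime_dim (R := R ⧸ a) (I := sInf T ⊔ sInf T') fun h =>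
        (maximalIdeal.isMaximal (R ⧸ a)).ne_top (top_le_iff.1 (h ▸ sup_le
          ((sInf_le ht).trans (le_maximalIdeal (hT ht).1.1.ne_top))
          ((sInf_le hu : sInf T' ≤ u).trans (le_maximalIdeal (hT' hu).1.1.ne_top))))
      obtain ⟨p, hp, hpP⟩ := exists_mem_of_sInf_le hT (le_sup_left.trans hle')
      obtain ⟨q, hq, hqP⟩ := exists_mem_of_sInf_le hT' (le_sup_right.trans hle')
      haveI := (hT hp).1.1
      have hpne : p < P := lt_of_le_of_ne hpP fun he => by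
        subst he
        have hqp : p = q := le_antisymm ((hT hp).2 (hT' hq).1 hqP) hqP
        exact hdisj p hp (hqp ▸ hq)
      obtain ⟨e, he⟩ := exists_dim_nat hP.ne_top
      obtain ⟨w, hwP, hwp⟩ := SetLike.exists_of_lt hpne
      have h1 := ringKrullDim_quotient_succ_le_of_nonZeroDivisor
        (mem_nonZeroDivisors_of_ne_zero (fun h0 : Ideal.Quotient.mk p w = 0 => hwp (Ideal.Quotient.eq_zero_iff_mem.1 h0)))
      have h2 : ringKrullDim ((R ⧸ a) ⧸ P) ≤ ringKrullDim (((R ⧸ a) ⧸ p) ⧸ Ideal.span {Ideal.Quotient.mk p w}) :=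
        ringKrullDim_le_of_surjective (Ideal.Quotient.lift _ (Ideal.Quotient.factor hpP) fun c hc => by
          obtain ⟨b, rfl⟩ := Ideal.mem_span_singleton'.1 hc
          rw [map_mul, show Ideal.Quotient.factor hpP (Ideal.Quotient.mk p w) = 0 from
            Ideal.Quotient.eq_zero_iff_mem.2 hwP, mul_zero])
          (Ideal.Quotient.lift_surjective_of_surjective _ _ (Ideal.Quotient.factor_surjective hpP))
      have h3 : ((e : WithBot ℕ∞) + 1) ≤ ringKrullDim ((R ⧸ a) ⧸ p) := by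
        rw [← he]
        exact (add_le_add_left h2 1).trans h1
      rw [← hPd, he]
      exact lt_of_lt_of_le (by exact_mod_cast Nat.lt_succ_self e) (h3.trans (dim_anti (sInf_le hp)))
    have hlt : (δ : WithBot ℕ∞) < min (ringKrullDim (R ⧸ a₁)) (ringKrullDim (R ⧸ b₁)) := by
      rw [← hcδ, hc, hdim, hdim]
      refine lt_min (key S _ hS Set.sdiff_subset (fun t ht h => h.2 ht) x hx y hy) ?_
      rw [sup_comm]
      exact key _ S Set.sdiff_subset hS (fun t ht h => ht.2 h) y hy x hx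
    have hk' : LocCoh.CdLE R (a₁ ⊓ b₁) s.card := by
      refine cdLE_congr (le_antisymm (Ideal.radical_mono (le_inf (hle _) (hle _))) ?_) hk
      rw [Ideal.radical_le_radical_iff, ← Ideal.comap_inf,
        show sInf S ⊓ sInf (minimalPrimes (R ⧸ a) \ S) = (⊥ : Ideal (R ⧸ a)).radical by
          rw [← sInf_union, Set.union_sdiff_cancel hS]
          exact (Ideal.sInf_minimalPrimes (I := (⊥ : Ideal (R ⧸ a)))),
        Ideal.comap_radical, ← RingHom.ker_eq_comap_bot, Ideal.mk_ker]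
    refine (min_le_of_cd hna₁ hnb₁ hδ hlt hk').trans (le_of_eq ?_)
    rw [hcδ]
    norm_cast
  · rw [Conn.connDim_eq_of_singleton hq]
    haveI := (hq.symm ▸ Set.mem_singleton q : q ∈ minimalPrimes (R ⧸ a)).1.1
    have hrad : q = (⊥ : Ideal (R ⧸ a)).radical := by
      have h : sInf (minimalPrimes (R ⧸ a)) = (⊥ : Ideal (R ⧸ a)).radical :=
        Ideal.sInf_minimalPrimes (I := (⊥ : Ideal (R ⧸ a)))
      rwa [hq, sInf_singleton] at h
    have hdim : ringKrullDim ((R ⧸ a) ⧸ q) = ringKrullDim (R ⧸ a) := by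
      rw [dim_congr_radical (I := q) (J := ⊥) (by rw [hrad, Ideal.radical_idem])]
      exact ringKrullDim_eq_of_ringEquiv (RingEquiv.quotientBot _)
    obtain ⟨e, he⟩ := exists_dim_nat ha
    obtain ⟨p, hp, -⟩ := exists_minimal_dim_sup ha
    haveI := hp.1.1
    refine (min_le_right _ _).trans ((Conn.subdim_le p hp).trans ((dim_le_cd_add hk p ha (e := e) ?_).trans ?_))
    · exact (dim_anti le_sup_left).trans he.le
    · rw [hdim, he]
      exact_mod_cast (show s.card + e ≤ e + s.card + 1 by omega)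

theorem connDim_le_ara {a : Ideal R} (ha : a ≠ ⊤) (s : Finset R) (hs : (Ideal.span (s : Set R)).radical = a.radical) :
    LocCoh.connDim (PrimeSpectrum R) ≤ LocCoh.connDim (PrimeSpectrum (R ⧸ a)) + (s.card : WithBot ℕ∞) + 1 ∧
      ((minimalPrimes R).Nontrivial → LocCoh.connDim (PrimeSpectrum R) <
        LocCoh.connDim (PrimeSpectrum (R ⧸ a)) + (s.card : WithBot ℕ∞) + 1) := by
  have h := min_le_ara ha s hs
  rcases Conn.nontrivial_or_eq_singleton (R := R) with hnt | ⟨p, hp⟩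
  · obtain ⟨S, hS, ⟨x, hx⟩, ⟨y, hy⟩, hc⟩ := Conn.exists_primes_connDim hnt
    obtain ⟨c, hc'⟩ := exists_dim_nat (I := sInf S ⊔ sInf (minimalPrimes R \ S)) fun hh => (maximalIdeal.isMaximal R).ne_top
      (top_le_iff.1 (hh ▸ sup_le ((sInf_le hx).trans (le_maximalIdeal (hS hx).1.1.ne_top))
        ((sInf_le hy : sInf (minimalPrimes R \ S) ≤ y).trans (le_maximalIdeal hy.1.1.1.ne_top))))
    obtain ⟨q, hq, hsub⟩ := Conn.exists_subdim_prime (R := R)
    obtain ⟨d, hd⟩ := exists_dim_nat hq.1.1.ne_top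
    have hlt := Conn.connDim_lt_subdim_spec hnt
    rw [hc, hc', hsub, hd] at hlt h
    have hcd : c < d := by exact_mod_cast hlt
    rw [min_eq_left (by exact_mod_cast hcd : ((c : WithBot ℕ∞) + 1) ≤ (d : WithBot ℕ∞))] at h
    have hlt' := lt_of_lt_of_le (show (c : WithBot ℕ∞) < (c : WithBot ℕ∞) + 1 by exact_mod_cast Nat.lt_succ_self c) h
    rw [hc, hc']
    exact ⟨hlt'.le, fun _ => hlt'⟩
  · refine ⟨?_, fun hnt => absurd hnt (by rw [hp]; exact Set.not_nontrivial_singleton)⟩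
    obtain ⟨c, hc⟩ := exists_dim_nat (hp.symm ▸ Set.mem_singleton p : p ∈ minimalPrimes R).1.1.ne_top
    rw [← Conn.connDim_eq_subdim_of_singleton hp, Conn.connDim_eq_of_singleton hp, hc,
      min_eq_right (by exact_mod_cast Nat.le_succ c)] at h
    rwa [Conn.connDim_eq_of_singleton hp, hc]

end HLVTLib
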