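import Groth.Agent.HLVTLib.ConnDim
import Groth.Agent.CommAlgDim.Regular
import Mathlib.RingTheory.Ideal.MinimalPrime.Noetherian

/-!
# Connectedness dimension of a spectrum through minimal primes
-/

set_option autoImplicit false
set_option linter.style.haveILetI false
set_option linter.unusedSectionVars false

universe u

open Set TopologicalSpace PrimeSpectrum

noncomputable section

namespace HLVTLib.Conn

variable {R : Type u} [CommRing R]

theorem dim_zeroLocus (a : Ideal R) : topologicalKrullDim ↥(zeroLocus (a : Set R)) = ringKrullDim (R ⧸ a) := by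
  have he := PrimeSpectrum.isClosedEmbedding_comap_of_surjective (R ⧸ a) (Ideal.Quotient.mk a) Ideal.Quotient.mk_surjective
  have hr : Set.range (PrimeSpectrum.comap (Ideal.Quotient.mk a)) = zeroLocus (a : Set R) := by
    rw [range_comap_of_surjective (R ⧸ a) _ Ideal.Quotient.mk_surjective, Ideal.mk_ker]
  rw [← hr, ← he.isEmbedding.toHomeomorph.isHomeomorph.topologicalKrullDim_eq,
    PrimeSpectrum.topologicalKrullDim_eq_ringKrullDim]

/-- The map from ideals to closed sets. -/
abbrev V (p : Ideal R) : Set (PrimeSpectrum R) := zeroLocus (p : Set R)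

theorem components_eq : irreducibleComponents (PrimeSpectrum R) = V '' minimalPrimes R :=
  (zeroLocus_minimalPrimes R).symm

theorem V_injOn : Set.InjOn (V (R := R)) (minimalPrimes R) := fun p hp q hq h => by
  have h1 := congrArg PrimeSpectrum.vanishingIdeal h
  rw [V, V, vanishingIdeal_zeroLocus_eq_radical, vanishingIdeal_zeroLocus_eq_radical, hp.1.1.radical,
    hq.1.1.radical] at h1
  exact h1

theorem sUnion_V {S : Set (Ideal R)} (hS : S.Finite) : ⋃₀ (V '' S) = V (sInf S) := by
  refine Set.Subset.antisymm ?_ fun x hx => ?_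
  · rintro x ⟨_, ⟨p, hp, rfl⟩, hx⟩
    exact (show sInf S ≤ p from sInf_le hp).trans hx
  · have h1 : hS.toFinset.inf id ≤ x.asIdeal := by
      refine le_trans (le_sInf fun p hp => ?_) hx
      exact Finset.inf_le (f := id) (hS.mem_toFinset.2 hp)
    obtain ⟨p, hp, hle⟩ := x.isPrime.inf_le'.1 h1
    exact ⟨V p, ⟨p, hS.mem_toFinset.1 hp, rfl⟩, hle⟩

theorem dim_inter_V {S S' : Set (Ideal R)} (hS : S.Finite) (hS' : S'.Finite) :
    topologicalKrullDim ↥(⋃₀ (V '' S) ∩ ⋃₀ (V '' S')) = ringKrullDim (R ⧸ (sInf S ⊔ sInf S')) := by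
  rw [sUnion_V hS, sUnion_V hS', ← dim_zeroLocus, zeroLocus_sup]

variable [IsNoetherianRing R]

theorem connDim_le_primes {S S' : Set (Ideal R)} (hS : S ⊆ minimalPrimes R) (hS' : S' ⊆ minimalPrimes R)
    (hS0 : S.Nonempty) (hS0' : S'.Nonempty) (hcov : S ∪ S' = minimalPrimes R) :
    LocCoh.connDim (PrimeSpectrum R) ≤ ringKrullDim (R ⧸ (sInf S ⊔ sInf S')) := by
  have hf := minimalPrimes.finite_of_isNoetherianRing R
  rw [← dim_inter_V (hf.subset hS) (hf.subset hS')]
  refine connDim_le_pair ?_ ?_ (hS0.image _) (hS0'.image _) ?_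
  · rw [components_eq]; exact Set.image_mono hS
  · rw [components_eq]; exact Set.image_mono hS'
  · rw [components_eq, ← Set.image_union, hcov]

theorem components_nontrivial (h : (minimalPrimes R).Nontrivial) :
    (irreducibleComponents (PrimeSpectrum R)).Nontrivial := by
  rw [components_eq]
  exact h.image_of_injOn V_injOn

theorem exists_primes_connDim [Nontrivial R] (h : (minimalPrimes R).Nontrivial) :
    ∃ S : Set (Ideal R), S ⊆ minimalPrimes R ∧ S.Nonempty ∧ (minimalPrimes R \ S).Nonempty ∧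
      LocCoh.connDim (PrimeSpectrum R) = ringKrullDim (R ⧸ (sInf S ⊔ sInf (minimalPrimes R \ S))) := by
  have hf := minimalPrimes.finite_of_isNoetherianRing R
  obtain ⟨A, hA, ⟨C, hC⟩, ⟨D, hD⟩, heq⟩ := exists_disjoint_pair (T := PrimeSpectrum R) (components_nontrivial h)
  have hAeq : V '' (minimalPrimes R ∩ V ⁻¹' A) = A := by
    rw [Set.image_inter_preimage, ← components_eq, Set.inter_eq_right.2 hA]
  have hBeq : V '' (minimalPrimes R \ (minimalPrimes R ∩ V ⁻¹' A)) = irreducibleComponents (PrimeSpectrum R) \ A := by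
    rw [V_injOn.image_sdiff_subset Set.inter_subset_left, hAeq, ← components_eq]
  refine ⟨minimalPrimes R ∩ V ⁻¹' A, Set.inter_subset_left, ?_, ?_, ?_⟩
  · exact Set.image_nonempty.1 (hAeq.symm ▸ ⟨C, hC⟩ : (V '' (minimalPrimes R ∩ V ⁻¹' A)).Nonempty)
  · exact Set.image_nonempty.1 (hBeq.symm ▸ ⟨D, hD⟩ : (V '' (minimalPrimes R \ (minimalPrimes R ∩ V ⁻¹' A))).Nonempty)
  · rw [heq, ← dim_inter_V (hf.subset Set.inter_subset_left) (hf.subset Set.sdiff_subset), hAeq, hBeq]

theorem subdim_le (p : Ideal R) (hp : p ∈ minimalPrimes R) :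
    LocCoh.subdim (PrimeSpectrum R) ≤ ringKrullDim (R ⧸ p) := by
  rw [← dim_zeroLocus]
  exact iInf₂_le (V p) (by rw [components_eq]; exact ⟨p, hp, rfl⟩)

theorem le_subdim {x : WithBot ℕ∞} (h : ∀ p ∈ minimalPrimes R, x ≤ ringKrullDim (R ⧸ p)) :
    x ≤ LocCoh.subdim (PrimeSpectrum R) := by
  refine le_iInf₂ fun C hC => ?_
  rw [components_eq] at hC
  obtain ⟨p, hp, rfl⟩ := hC
  rw [dim_zeroLocus]
  exact h p hp

theorem exists_subdim_prime [Nontrivial R] :
    ∃ p ∈ minimalPrimes R, LocCoh.subdim (PrimeSpectrum R) = ringKrullDim (R ⧸ p) := by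
  obtain ⟨C, hC, h⟩ := exists_subdim (T := PrimeSpectrum R)
  rw [components_eq] at hC
  obtain ⟨p, hp, rfl⟩ := hC
  exact ⟨p, hp, h.trans (dim_zeroLocus p)⟩

theorem connDim_eq_of_singleton [Nontrivial R] {p : Ideal R} (h : minimalPrimes R = {p}) :
    LocCoh.connDim (PrimeSpectrum R) = ringKrullDim (R ⧸ p) := by
  rw [connDim_eq_of_irreducible (C := V p) (by rw [components_eq, h, Set.image_singleton]), dim_zeroLocus]

theorem connDim_eq_subdim_of_singleton [Nontrivial R] {p : Ideal R} (h : minimalPrimes R = {p}) :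
    LocCoh.connDim (PrimeSpectrum R) = LocCoh.subdim (PrimeSpectrum R) := by
  refine le_antisymm connDim_le_subdim ?_
  rw [connDim_eq_of_singleton h]
  exact subdim_le p (h ▸ Set.mem_singleton p)

theorem nontrivial_or_eq_singleton [Nontrivial R] :
    (minimalPrimes R).Nontrivial ∨ ∃ p, minimalPrimes R = {p} := by
  rcases (minimalPrimes R).subsingleton_or_nontrivial with h | h
  · obtain ⟨m, hm⟩ := Ideal.exists_maximal R
    obtain ⟨p, hp, -⟩ := Ideal.exists_minimalPrimes_le (I := (⊥ : Ideal R)) (J := m) bot_le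
    exact Or.inr ⟨p, h.eq_singleton_of_mem hp⟩
  · exact Or.inl h

theorem connDim_lt_subdim_spec [IsLocalRing R] (h : (minimalPrimes R).Nontrivial) :
    LocCoh.connDim (PrimeSpectrum R) < LocCoh.subdim (PrimeSpectrum R) := by
  refine connDim_lt_subdim ?_ (components_nontrivial h)
  rw [PrimeSpectrum.topologicalKrullDim_eq_ringKrullDim]
  obtain ⟨d, hd⟩ := CommAlgDim.exists_ringKrullDim_eq (R := R)
  rw [hd]
  exact WithBot.coe_lt_coe.2 (ENat.natCast_lt_top d)

end HLVTLib.Conn
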