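import Groth.Agent.LocCohLib.ChangeSupport
import Groth.Agent.LocCohLib.CohDim
import Mathlib.CategoryTheory.Abelian.Exact

/-!
# The Mayer–Vietoris sequence of local cohomology
-/

set_option autoImplicit false
set_option linter.style.haveILetI false
set_option linter.unusedSectionVars false
set_option maxHeartbeats 120000

universe u

open CategoryTheory Limits LocCohLib

noncomputable section

namespace HLVTLib.MV

variable {R : Type u} [CommRing R]

/-- The iterated cokernels of embeddings into injectives. -/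
def Q : ℕ → ModuleCat.{u} R → ModuleCat.{u} R
  | 0, M => M
  | i + 1, M => Q i (DeltaFun.under _ M).X₃

/-- The injective module. -/
abbrev U (i : ℕ) (M : ModuleCat.{u} R) : ModuleCat.{u} R := Injective.under (Q i M)

/-- The projection onto the next cokernel. -/
def pr : ∀ (i : ℕ) (M : ModuleCat.{u} R), U i M ⟶ Q (i + 1) M
  | 0, M => cokernel.π (Injective.ι M)
  | i + 1, M => pr i (DeltaFun.under _ M).X₃

theorem ι_pr : ∀ (i : ℕ) (M : ModuleCat.{u} R), Injective.ι (Q i M) ≫ pr i M = 0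
  | 0, M => cokernel.condition _
  | i + 1, M => ι_pr i (DeltaFun.under _ M).X₃

theorem exact_pr : ∀ (i : ℕ) (M : ModuleCat.{u} R), (ShortComplex.mk _ _ (ι_pr i M)).ShortExact
  | 0, M => DeltaFun.under_shortExact M
  | i + 1, M => exact_pr i (DeltaFun.under _ M).X₃

variable [IsNoetherianRing R]

/-- The iterated connecting map. -/
def p (K : Ideal R) : ∀ (i : ℕ) (M : ModuleCat.{u} R),
    (localCohomology K 0).obj (Q i M) ⟶ (localCohomology K i).obj M
  | 0, M => 𝟙 _
  | i + 1, M => p K i (DeltaFun.under _ M).X₃ ≫ (lcDelta K).δ (DeltaFun.under_shortExact M) i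

theorem p_surjective (K : Ideal R) : ∀ (i : ℕ) (M : ModuleCat.{u} R), Function.Surjective (p K i M)
  | 0, _ => fun x => ⟨x, rfl⟩
  | i + 1, M => ((ModuleCat.epi_iff_surjective _).1
      ((lcDelta K).epi_δ (DeltaFun.under_shortExact M) i (lcDelta_effaceable K _ (inferInstanceAs (Injective (Injective.under M))) i))).comp
      (p_surjective K i (DeltaFun.under _ M).X₃)

theorem p_natural {K K' : Ideal R} (h : K ≤ K') : ∀ (i : ℕ) (M : ModuleCat.{u} R)
    (x : (localCohomology K' 0).obj (Q i M)),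
    (Dual2.HmapOfLE h i).app M (p K' i M x) = p K i M ((Dual2.HmapOfLE h 0).app (Q i M) x)
  | 0, _, _ => rfl
  | i + 1, M, x =>
    (ConcreteCategory.congr_hom (δ_HmapOfLE h (DeltaFun.under_shortExact M) i)
        (p K' i (DeltaFun.under _ M).X₃ x)).trans
      (congrArg ((lcDelta K).δ (DeltaFun.under_shortExact M) i) (p_natural h i (DeltaFun.under _ M).X₃ x))

theorem p_eq_zero_iff (K : Ideal R) : ∀ (i : ℕ) (M : ModuleCat.{u} R) (x : (localCohomology K 0).obj (Q (i + 1) M)),
    p K (i + 1) M x = 0 ↔ ∃ e, (localCohomology K 0).map (pr i M) e = x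
  | 0, M, x => (ShortComplex.moduleCat_exact_iff _).1 ((lcDelta K).exact₃ (DeltaFun.under_shortExact M) 0) x |> fun h =>
      ⟨fun hx => h hx, fun ⟨e, he⟩ => he ▸
        ConcreteCategory.congr_hom ((lcDelta K).map_comp_δ (DeltaFun.under_shortExact M) 0) e⟩
  | i + 1, M, x => by
    refine Iff.trans ?_ (p_eq_zero_iff K i (DeltaFun.under _ M).X₃ x)
    have hz := lcDelta_effaceable K (Injective.under M) inferInstance i
    constructor
    · intro hx
      obtain ⟨e, he⟩ := (ShortComplex.moduleCat_exact_iff _).1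
        ((lcDelta K).exact₃ (DeltaFun.under_shortExact M) (i + 1)) (p K (i + 1) _ x) hx
      haveI := ModuleCat.subsingleton_of_isZero hz
      rw [← he, show e = 0 from Subsingleton.elim (α := ((lcDelta K).F (i + 1)).obj (Injective.under M)) e 0]
      exact map_zero _
    · intro hx
      exact (congrArg ((lcDelta K).δ (DeltaFun.under_shortExact M) (i + 1)) hx).trans (map_zero _)

/-- `H^0` of `K` as the torsion submodule. -/
def tor (K : Ideal R) (N : ModuleCat.{u} R) : (localCohomology K 0).obj N ≃ₗ[R] DRing.torsionSub K N :=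
  ((lcZeroIso K).app N).toLinearEquiv

theorem tor_natural (K : Ideal R) {N N' : ModuleCat.{u} R} (f : N ⟶ N') (x : (localCohomology K 0).obj N) :
    (tor K N' ((localCohomology K 0).map f x)).1 = f (tor K N x).1 :=
  congrArg Subtype.val (ConcreteCategory.congr_hom ((lcZeroIso K).hom.naturality f) x)

theorem tor_HmapOfLE {K K' : Ideal R} (h : K ≤ K') (N : ModuleCat.{u} R) (x : (localCohomology K' 0).obj N) :
    (tor K N ((Dual2.HmapOfLE h 0).app N x)).1 = (tor K' N x).1 :=
  lcZeroIso_HmapOfLE h N x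

/-- Cycles onto cohomology. -/
def P (K : Ideal R) (i : ℕ) (M : ModuleCat.{u} R) :
    DRing.torsionSub K (Q i M) →ₗ[R] (localCohomology K i).obj M :=
  (p K i M).hom ∘ₗ (tor K (Q i M)).symm.toLinearMap

theorem P_surjective (K : Ideal R) (i : ℕ) (M : ModuleCat.{u} R) : Function.Surjective (P K i M) :=
  (p_surjective K i M).comp (tor K (Q i M)).symm.surjective

theorem torsionSub_anti {K K' : Ideal R} (h : K ≤ K') (N : Type u) [AddCommGroup N] [Module R N] :
    DRing.torsionSub K' N ≤ DRing.torsionSub K N := fun _ ⟨n, hn⟩ =>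
  ⟨n, fun a ha => hn a (Ideal.pow_right_mono h n ha)⟩

theorem P_natural {K K' : Ideal R} (h : K ≤ K') (i : ℕ) (M : ModuleCat.{u} R) (x : DRing.torsionSub K' (Q i M)) :
    (Dual2.HmapOfLE h i).app M (P K' i M x) = P K i M ⟨x.1, torsionSub_anti h _ x.2⟩ := by
  show (Dual2.HmapOfLE h i).app M (p K' i M ((tor K' (Q i M)).symm x)) = p K i M ((tor K (Q i M)).symm _)
  refine (p_natural h i M _).trans (congrArg (p K i M) ?_)
  rw [LinearEquiv.eq_symm_apply]
  refine Subtype.ext ((tor_HmapOfLE h _ _).trans ?_)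
  rw [LinearEquiv.apply_symm_apply]

theorem P_eq_zero_iff (K : Ideal R) (i : ℕ) (M : ModuleCat.{u} R) (x : DRing.torsionSub K (Q (i + 1) M)) :
    P K (i + 1) M x = 0 ↔ ∃ e ∈ DRing.torsionSub K (U i M), pr i M e = x.1 := by
  show p K (i + 1) M ((tor K _).symm x) = 0 ↔ _
  rw [p_eq_zero_iff]
  constructor
  · rintro ⟨e, he⟩
    refine ⟨(tor K _ e).1, (tor K _ e).2, ?_⟩
    rw [← tor_natural, he, LinearEquiv.apply_symm_apply]
  · rintro ⟨e, he, hex⟩
    refine ⟨(tor K _).symm ⟨e, he⟩, ?_⟩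
    rw [LinearEquiv.eq_symm_apply]
    refine Subtype.ext ?_
    rw [tor_natural, LinearEquiv.apply_symm_apply]
    exact hex

theorem P_zero_injective (K : Ideal R) (M : ModuleCat.{u} R) : Function.Injective (P K 0 M) := fun x y h =>
  (tor K (Q 0 M)).symm.injective h

theorem mem_sup {I J : Ideal R} {N : Type u} [AddCommGroup N] [Module R N] {x : N}
    (hI : x ∈ DRing.torsionSub I N) (hJ : x ∈ DRing.torsionSub J N) : x ∈ DRing.torsionSub (I ⊔ J) N := by
  obtain ⟨n, hn⟩ := hI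
  obtain ⟨m, hm⟩ := hJ
  refine ⟨n + m, fun a ha => ?_⟩
  obtain ⟨b, hb, c, hc, rfl⟩ := Submodule.mem_sup.1 (Ideal.sup_pow_add_le_pow_sup_pow ha)
  rw [add_smul, hn b hb, hm c hc, add_zero]

theorem exists_pow_inf_le (I J : Ideal R) (n : ℕ) : ∃ m, I ^ m ⊓ J ^ m ≤ (I ⊓ J) ^ n := by
  obtain ⟨c, hc⟩ := Ideal.exists_pow_inf_eq_pow_smul I (M := R) (J ^ n)
  refine ⟨n + c, fun x hx => ?_⟩
  have h1 : x ∈ I ^ (n + c) • (⊤ : Ideal R) ⊓ J ^ n :=
    ⟨by rw [smul_eq_mul, Ideal.mul_top]; exact hx.1, Ideal.pow_le_pow_right (Nat.le_add_right n c) hx.2⟩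
  rw [hc (n + c) (Nat.le_add_left c n), Nat.add_sub_cancel] at h1
  have h2 : x ∈ I ^ n • J ^ n := Submodule.smul_mono le_rfl inf_le_right h1
  rw [smul_eq_mul, ← mul_pow] at h2
  exact Ideal.pow_right_mono Ideal.mul_le_inf n h2

/-- On an injective module the torsion of the intersection splits. -/
theorem exists_sub_eq (I J : Ideal R) (E : ModuleCat.{u} R) [Injective E] {x : E}
    (hx : x ∈ DRing.torsionSub (I ⊓ J) E) :
    ∃ a ∈ DRing.torsionSub I E, ∃ b ∈ DRing.torsionSub J E, x = a - b := by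
  obtain ⟨n, hn⟩ := hx
  obtain ⟨m, hm⟩ := exists_pow_inf_le I J n
  let φ : R ⧸ (I ^ m ⊓ J ^ m) →ₗ[R] E :=
    Submodule.liftQ _ (LinearMap.toSpanSingleton R E x) fun a ha => hn a (hm ha)
  let ψ : R ⧸ (I ^ m ⊓ J ^ m) →ₗ[R] (R ⧸ I ^ m) × (R ⧸ J ^ m) :=
    Submodule.liftQ _ ((I ^ m).mkQ.prod (J ^ m).mkQ) (by rw [LinearMap.ker_prod, Submodule.ker_mkQ, Submodule.ker_mkQ])
  have hψ : Function.Injective ψ := LinearMap.ker_eq_bot.1 (Submodule.ker_liftQ_eq_bot _ _ _ (by
    rw [LinearMap.ker_prod, Submodule.ker_mkQ, Submodule.ker_mkQ]))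
  haveI : Module.Injective R E := Module.injective_module_of_injective_object R E
  obtain ⟨g, hg⟩ := Module.Injective.out (R := R) (Q := E) ψ hψ φ
  refine ⟨g ((I ^ m).mkQ 1, 0), ⟨m, fun a ha => ?_⟩, - g (0, (J ^ m).mkQ 1), ⟨m, fun a ha => ?_⟩, ?_⟩
  · rw [← map_smul, Prod.smul_mk, smul_zero, ← map_smul]
    have : (I ^ m).mkQ (a • (1 : R)) = 0 := (Submodule.Quotient.mk_eq_zero _).2 (by simpa using ha)
    rw [this]
    exact map_zero g
  · rw [smul_neg, ← map_smul, Prod.smul_mk, smul_zero, ← map_smul]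
    have : (J ^ m).mkQ (a • (1 : R)) = 0 := (Submodule.Quotient.mk_eq_zero _).2 (by simpa using ha)
    rw [this]
    exact neg_eq_zero.2 (map_zero g)
  · rw [sub_neg_eq_add, ← map_add, Prod.mk_add_mk, add_zero, zero_add]
    have h1 := hg (Submodule.Quotient.mk 1)
    rw [show φ (Submodule.Quotient.mk 1) = x from one_smul R x] at h1
    exact h1.symm

variable (I J : Ideal R) (M : ModuleCat.{u} R) (i : ℕ)

/-- The embedding into the injective module. -/
abbrev emb : Q i M →ₗ[R] U i M := (Injective.ι (Q i M)).hom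

theorem emb_injective : Function.Injective (emb M i) :=
  (ModuleCat.mono_iff_injective _).1 (exact_pr i M).mono_f

theorem pr_emb (q : Q i M) : pr i M (emb M i q) = 0 := ConcreteCategory.congr_hom (ι_pr i M) q

theorem exists_emb {e : U i M} (he : pr i M e = 0) : ∃ q, emb M i q = e :=
  (ShortComplex.moduleCat_exact_iff _).1 (exact_pr i M).exact e he

theorem mem_of_emb {K : Ideal R} {q : Q i M} (h : emb M i q ∈ DRing.torsionSub K (U i M)) :
    q ∈ DRing.torsionSub K (Q i M) := by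
  obtain ⟨n, hn⟩ := h
  exact ⟨n, fun a ha => emb_injective M i (by rw [map_smul, map_zero, hn a ha])⟩

/-- Kernels of `P` on the intersection split. -/
theorem exists_sub_of_P_eq_zero {x : DRing.torsionSub (I ⊓ J) (Q i M)} (hx : P (I ⊓ J) i M x = 0) :
    ∃ (a : DRing.torsionSub I (Q i M)) (b : DRing.torsionSub J (Q i M)),
      P I i M a = 0 ∧ P J i M b = 0 ∧ x.1 = a.1 - b.1 := by
  cases i with
  | zero =>
    refine ⟨0, 0, map_zero _, map_zero _, ?_⟩
    rw [P_zero_injective _ _ (hx.trans (map_zero _).symm)]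
    simp
  | succ i =>
    obtain ⟨e, he, hex⟩ := (P_eq_zero_iff _ i M x).1 hx
    obtain ⟨a, ha, b, hb, rfl⟩ := exists_sub_eq I J (U i M) he
    refine ⟨⟨pr i M a, DRing.map_mem_torsionSub I (pr i M).hom ha⟩,
      ⟨pr i M b, DRing.map_mem_torsionSub J (pr i M).hom hb⟩,
      (P_eq_zero_iff _ i M _).2 ⟨a, ha, rfl⟩, (P_eq_zero_iff _ i M _).2 ⟨b, hb, rfl⟩, ?_⟩
    rw [← hex]
    exact map_sub (pr i M).hom a b

/-- The difference map. -/
def dif : DRing.torsionSub I (U i M) × DRing.torsionSub J (U i M) →ₗ[R] U i M :=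
  (DRing.torsionSub I (U i M)).subtype ∘ₗ LinearMap.fst R _ _ -
    (DRing.torsionSub J (U i M)).subtype ∘ₗ LinearMap.snd R _ _

theorem dif_apply (z : DRing.torsionSub I (U i M) × DRing.torsionSub J (U i M)) : dif I J M i z = z.1.1 - z.2.1 := rfl

/-- Pairs with the same image in the next cokernel. -/
abbrev W : Submodule R (DRing.torsionSub I (U i M) × DRing.torsionSub J (U i M)) :=
  LinearMap.ker ((pr i M).hom ∘ₗ dif I J M i)

theorem pr_dif (w : W I J M i) : pr i M (dif I J M i w.1) = 0 := w.2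

theorem pr_eq_of_mem (w : W I J M i) : pr i M w.1.1.1 = pr i M w.1.2.1 := by
  have h := pr_dif I J M i w
  rwa [dif_apply, map_sub, sub_eq_zero] at h

theorem mem_W {z : DRing.torsionSub I (U i M) × DRing.torsionSub J (U i M)} (h : pr i M (z.1.1 - z.2.1) = 0) :
    z ∈ W I J M i := LinearMap.mem_ker.2 h

/-- The difference, as an element below. -/
def low : W I J M i →ₗ[R] Q i M :=
  (LinearEquiv.ofInjective (emb M i) (emb_injective M i)).symm.toLinearMap ∘ₗ
    (dif I J M i ∘ₗ (W I J M i).subtype).codRestrict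
      (LinearMap.range (emb M i)) fun w => exists_emb M i (pr_dif I J M i w)

theorem emb_low (w : W I J M i) : emb M i (low I J M i w) = w.1.1.1 - w.1.2.1 := by
  exact (congrArg Subtype.val
    (LinearEquiv.apply_symm_apply (LinearEquiv.ofInjective (emb M i) (emb_injective M i))
      ((dif I J M i ∘ₗ (W I J M i).subtype).codRestrict
        (LinearMap.range (emb M i)) (fun w => exists_emb M i (pr_dif I J M i w)) w))).trans (dif_apply I J M i w.1)

theorem low_mem (w : W I J M i) : low I J M i w ∈ DRing.torsionSub (I ⊓ J) (Q i M) := by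
  refine mem_of_emb M i ?_
  rw [emb_low]
  exact sub_mem (torsionSub_anti inf_le_left _ w.1.1.2) (torsionSub_anti inf_le_right _ w.1.2.2)

/-- The class of the difference. -/
def src : W I J M i →ₗ[R] (localCohomology (I ⊓ J) i).obj M :=
  P (I ⊓ J) i M ∘ₗ (low I J M i).codRestrict _ (low_mem I J M i)

theorem pr_mem (w : W I J M i) : pr i M w.1.1.1 ∈ DRing.torsionSub (I ⊔ J) (Q (i + 1) M) :=
  mem_sup (DRing.map_mem_torsionSub I (pr i M).hom w.1.1.2)
    (pr_eq_of_mem I J M i w ▸ DRing.map_mem_torsionSub J (pr i M).hom w.1.2.2)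

/-- The common image. -/
def high : W I J M i →ₗ[R] DRing.torsionSub (I ⊔ J) (Q (i + 1) M) :=
  ((pr i M).hom ∘ₗ (DRing.torsionSub I (U i M)).subtype ∘ₗ LinearMap.fst R _ _ ∘ₗ (W I J M i).subtype).codRestrict _
    (pr_mem I J M i)

/-- The class of the common image. -/
def tgt : W I J M i →ₗ[R] (localCohomology (I ⊔ J) (i + 1)).obj M :=
  P (I ⊔ J) (i + 1) M ∘ₗ high I J M i

theorem tgt_apply (w : W I J M i) : tgt I J M i w = P (I ⊔ J) (i + 1) M ⟨pr i M w.1.1.1, pr_mem I J M i w⟩ := rfl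

theorem src_apply (w : W I J M i) : src I J M i w = P (I ⊓ J) i M ⟨low I J M i w, low_mem I J M i w⟩ := rfl

theorem src_surjective : Function.Surjective (src I J M i) := fun x => by
  obtain ⟨q, rfl⟩ := P_surjective (I ⊓ J) i M x
  obtain ⟨a, ha, b, hb, hab⟩ := exists_sub_eq I J (U i M)
    (DRing.map_mem_torsionSub (I ⊓ J) (emb M i) q.2)
  let w : W I J M i := ⟨(⟨a, ha⟩, ⟨b, hb⟩), mem_W I J M i (by rw [← hab]; exact pr_emb M i q.1)⟩
  refine ⟨w, congrArg (P (I ⊓ J) i M) (Subtype.ext (emb_injective M i ?_))⟩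
  exact (emb_low I J M i w).trans hab.symm

theorem ker_src_le : LinearMap.ker (src I J M i) ≤ LinearMap.ker (tgt I J M i) := fun w hw => by
  obtain ⟨a, b, ha, hb, hab⟩ := exists_sub_of_P_eq_zero I J M i (LinearMap.mem_ker.1 hw)
  rw [LinearMap.mem_ker, tgt_apply, P_eq_zero_iff]
  refine ⟨w.1.1.1 - emb M i a.1, mem_sup (sub_mem w.1.1.2 (DRing.map_mem_torsionSub I (emb M i) a.2)) ?_, ?_⟩
  · have h1 : w.1.1.1 - w.1.2.1 = emb M i a.1 - emb M i b.1 := by
      rw [← map_sub, ← emb_low]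
      exact congrArg _ hab
    rw [show w.1.1.1 - emb M i a.1 = w.1.2.1 - emb M i b.1 by rw [sub_eq_sub_iff_sub_eq_sub]; exact h1]
    exact sub_mem w.1.2.2 (DRing.map_mem_torsionSub J (emb M i) b.2)
  · rw [map_sub, pr_emb, sub_zero]

/-- The connecting map. -/
def conn : (localCohomology (I ⊓ J) i).obj M →ₗ[R] (localCohomology (I ⊔ J) (i + 1)).obj M :=
  (LinearMap.ker (src I J M i)).liftQ (tgt I J M i) (ker_src_le I J M i) ∘ₗ
    ((src I J M i).quotKerEquivOfSurjective (src_surjective I J M i)).symm.toLinearMap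

theorem conn_src (w : W I J M i) : conn I J M i (src I J M i w) = tgt I J M i w := by
  show (LinearMap.ker (src I J M i)).liftQ (tgt I J M i) (ker_src_le I J M i)
    (((src I J M i).quotKerEquivOfSurjective (src_surjective I J M i)).symm (src I J M i w)) = _
  rw [show ((src I J M i).quotKerEquivOfSurjective (src_surjective I J M i)).symm (src I J M i w) =
    Submodule.Quotient.mk w from (LinearEquiv.symm_apply_eq _).2 rfl]
  rfl

abbrev up {K K' : Ideal R} (h : K ≤ K') (i : ℕ) (M : ModuleCat.{u} R) :=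
  ((Dual2.HmapOfLE h i).app M).hom

/-- The pair. -/
abbrev pair := LinearMap.prod (up (le_sup_left : I ≤ I ⊔ J) i M) (up (le_sup_right : J ≤ I ⊔ J) i M)

/-- The difference. -/
abbrev diff : (localCohomology I i).obj M × (localCohomology J i).obj M →ₗ[R] (localCohomology (I ⊓ J) i).obj M :=
  up (inf_le_left : I ⊓ J ≤ I) i M ∘ₗ LinearMap.fst R _ _ - up (inf_le_right : I ⊓ J ≤ J) i M ∘ₗ LinearMap.snd R _ _

theorem ker_pair : LinearMap.ker (pair I J M (i + 1)) = LinearMap.range (conn I J M i) := by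
  refine le_antisymm (fun x hx => ?_) ?_
  · obtain ⟨q, rfl⟩ := P_surjective (I ⊔ J) (i + 1) M x
    have h1 := congrArg Prod.fst (LinearMap.mem_ker.1 hx)
    have h2 := congrArg Prod.snd (LinearMap.mem_ker.1 hx)
    change (Dual2.HmapOfLE le_sup_left (i + 1)).app M (P _ _ M q) = 0 at h1
    change (Dual2.HmapOfLE le_sup_right (i + 1)).app M (P _ _ M q) = 0 at h2
    rw [P_natural, P_eq_zero_iff] at h1 h2
    obtain ⟨a, ha, hqa⟩ := h1
    obtain ⟨b, hb, hqb⟩ := h2
    let w : W I J M i := ⟨(⟨a, ha⟩, ⟨b, hb⟩), mem_W I J M i (by rw [map_sub, hqa, hqb, sub_self])⟩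
    refine ⟨src I J M i w, ?_⟩
    rw [conn_src, tgt_apply]
    exact congrArg _ (Subtype.ext hqa)
  · rintro _ ⟨x, rfl⟩
    obtain ⟨w, rfl⟩ := src_surjective I J M i x
    rw [conn_src, tgt_apply, LinearMap.mem_ker]
    refine Prod.ext ?_ ?_
    · show (Dual2.HmapOfLE le_sup_left (i + 1)).app M (P _ _ M _) = 0
      rw [P_natural]
      exact (P_eq_zero_iff _ i M _).2 ⟨w.1.1.1, w.1.1.2, rfl⟩
    · show (Dual2.HmapOfLE le_sup_right (i + 1)).app M (P _ _ M _) = 0
      rw [P_natural]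
      exact (P_eq_zero_iff _ i M _).2 ⟨w.1.2.1, w.1.2.2, (pr_eq_of_mem I J M i w).symm⟩

theorem ker_diff : LinearMap.ker (diff I J M i) = LinearMap.range (pair I J M i) := by
  refine le_antisymm (fun x hx => ?_) ?_
  · obtain ⟨xI, xJ⟩ := x
    obtain ⟨qI, rfl⟩ := P_surjective I i M xI
    obtain ⟨qJ, rfl⟩ := P_surjective J i M xJ
    rw [LinearMap.mem_ker] at hx
    change (Dual2.HmapOfLE inf_le_left i).app M (P I i M qI) - (Dual2.HmapOfLE inf_le_right i).app M (P J i M qJ) = 0 at hx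
    rw [P_natural, P_natural, ← map_sub] at hx
    obtain ⟨a, b, ha, hb, hab⟩ := exists_sub_of_P_eq_zero I J M i hx
    change qI.1 - qJ.1 = a.1 - b.1 at hab
    have heq : qI.1 - a.1 = qJ.1 - b.1 := by rw [sub_eq_sub_iff_sub_eq_sub]; exact hab
    let q : DRing.torsionSub (I ⊔ J) (Q i M) :=
      ⟨qI.1 - a.1, mem_sup (sub_mem qI.2 a.2) (heq ▸ sub_mem qJ.2 b.2)⟩
    refine ⟨P (I ⊔ J) i M q, Prod.ext ?_ ?_⟩
    · show (Dual2.HmapOfLE le_sup_left i).app M (P _ i M q) = P I i M qI
      rw [P_natural, show (⟨q.1, _⟩ : DRing.torsionSub I (Q i M)) = qI - a from rfl, map_sub, ha, sub_zero]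
    · show (Dual2.HmapOfLE le_sup_right i).app M (P _ i M q) = P J i M qJ
      rw [P_natural, show (⟨q.1, _⟩ : DRing.torsionSub J (Q i M)) = qJ - b from Subtype.ext heq, map_sub, hb, sub_zero]
  · rintro _ ⟨x, rfl⟩
    obtain ⟨q, rfl⟩ := P_surjective (I ⊔ J) i M x
    rw [LinearMap.mem_ker]
    show (Dual2.HmapOfLE inf_le_left i).app M ((Dual2.HmapOfLE le_sup_left i).app M (P _ i M q)) -
      (Dual2.HmapOfLE inf_le_right i).app M ((Dual2.HmapOfLE le_sup_right i).app M (P _ i M q)) = 0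
    rw [P_natural, P_natural, P_natural, P_natural, sub_self]

theorem ker_conn : LinearMap.ker (conn I J M i) = LinearMap.range (diff I J M i) := by
  refine le_antisymm (fun x hx => ?_) ?_
  · obtain ⟨w, rfl⟩ := src_surjective I J M i x
    rw [LinearMap.mem_ker, conn_src, tgt_apply, P_eq_zero_iff] at hx
    obtain ⟨e, he, hew⟩ := hx
    change pr i M e = pr i M w.1.1.1 at hew
    obtain ⟨qI, hqI⟩ := exists_emb M i (e := w.1.1.1 - e) (by rw [map_sub, hew, sub_self])
    obtain ⟨qJ, hqJ⟩ := exists_emb M i (e := w.1.2.1 - e) (by rw [map_sub, hew, pr_eq_of_mem, sub_self])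
    have hI : qI ∈ DRing.torsionSub I (Q i M) := mem_of_emb M i
      (by rw [hqI]; exact sub_mem w.1.1.2 (torsionSub_anti le_sup_left _ he))
    have hJ : qJ ∈ DRing.torsionSub J (Q i M) := mem_of_emb M i
      (by rw [hqJ]; exact sub_mem w.1.2.2 (torsionSub_anti le_sup_right _ he))
    refine ⟨(P I i M ⟨qI, hI⟩, P J i M ⟨qJ, hJ⟩), ?_⟩
    show (Dual2.HmapOfLE inf_le_left i).app M (P I i M ⟨qI, hI⟩) -
      (Dual2.HmapOfLE inf_le_right i).app M (P J i M ⟨qJ, hJ⟩) = P (I ⊓ J) i M _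
    rw [P_natural, P_natural, ← map_sub]
    refine congrArg _ (Subtype.ext (emb_injective M i ?_))
    show emb M i (qI - qJ) = emb M i (low I J M i w)
    rw [emb_low, map_sub, hqI, hqJ]
    exact sub_sub_sub_cancel_right _ _ _
  · rintro _ ⟨⟨xI, xJ⟩, rfl⟩
    obtain ⟨qI, rfl⟩ := P_surjective I i M xI
    obtain ⟨qJ, rfl⟩ := P_surjective J i M xJ
    let w : W I J M i := ⟨(⟨emb M i qI.1, DRing.map_mem_torsionSub I (emb M i) qI.2⟩,
      ⟨emb M i qJ.1, DRing.map_mem_torsionSub J (emb M i) qJ.2⟩), mem_W I J M i (by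
        rw [map_sub, pr_emb, pr_emb, sub_self])⟩
    have h1 : diff I J M i (P I i M qI, P J i M qJ) = src I J M i w := by
      show (Dual2.HmapOfLE inf_le_left i).app M (P I i M qI) -
        (Dual2.HmapOfLE inf_le_right i).app M (P J i M qJ) = P (I ⊓ J) i M _
      rw [P_natural, P_natural, ← map_sub]
      refine congrArg _ (Subtype.ext (emb_injective M i ?_))
      show emb M i (qI.1 - qJ.1) = emb M i (low I J M i w)
      rw [emb_low, map_sub]
    rw [h1, LinearMap.mem_ker, conn_src, tgt_apply]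
    exact (P_eq_zero_iff _ i M _).2 ⟨0, zero_mem _, (map_zero _).trans (pr_emb M i qI.1).symm⟩

/-- The vanishing consequence. -/
theorem subsingleton_H_inf_ne {N : Type u} [AddCommGroup N] [Module R N] {m : ℕ}
    (hne : ¬ Subsingleton (LocCoh.H (I ⊔ J) (m + 1) N)) (hI : Subsingleton (LocCoh.H I (m + 1) N))
    (hJ : Subsingleton (LocCoh.H J (m + 1) N)) : ¬ Subsingleton (LocCoh.H (I ⊓ J) m N) := fun h => hne <|
  subsingleton_of_forall_eq 0 fun x => by
    have hx : x ∈ LinearMap.ker (pair I J (ModuleCat.of R N) (m + 1)) :=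
      LinearMap.mem_ker.2 (Prod.ext (Subsingleton.elim _ _) (Subsingleton.elim _ _))
    rw [ker_pair] at hx
    obtain ⟨y, rfl⟩ := hx
    haveI : Subsingleton ((localCohomology (I ⊓ J) m).obj (ModuleCat.of R N)) := h
    rw [Subsingleton.elim y 0, map_zero]

end HLVTLib.MV
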