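import Groth.Agent.HLVTLib.Main
import Groth.Agent.HLVTLib.MV
import Groth.Agent.HLVTLib.SpecDim
import Groth.Agent.CanonModLib.General

/-!
# Lower bounds for the connectedness dimension of complete local rings
-/

set_option autoImplicit false
set_option linter.style.haveILetI false
set_option linter.unusedSectionVars false
set_option maxHeartbeats 400000

universe u

open IsLocalRing LocCohLib

noncomputable section

namespace HLVTLib

variable {R : Type u} [CommRing R] [IsLocalRing R] [IsNoetherianRing R]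

theorem exists_dim_nat {I : Ideal R} (h : I ≠ ⊤) : ∃ e : ℕ, ringKrullDim (R ⧸ I) = e := by
  haveI : Nontrivial (R ⧸ I) := Ideal.Quotient.nontrivial_iff.2 h
  haveI : IsLocalRing (R ⧸ I) := IsLocalRing.of_surjective' _ Ideal.Quotient.mk_surjective
  exact CommAlgDim.exists_ringKrullDim_eq

theorem dim_anti {I J : Ideal R} (h : I ≤ J) : ringKrullDim (R ⧸ J) ≤ ringKrullDim (R ⧸ I) :=
  ringKrullDim_le_of_surjective (Ideal.Quotient.factor h) (Ideal.Quotient.factor_surjective h)

theorem dim_congr_radical {I J : Ideal R} (h : I.radical = J.radical) :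
    ringKrullDim (R ⧸ I) = ringKrullDim (R ⧸ J) := by
  rw [← Conn.dim_zeroLocus, ← Conn.dim_zeroLocus,
    ← PrimeSpectrum.zeroLocus_radical I, h, PrimeSpectrum.zeroLocus_radical J]

/-- The dimension is that of one of the primes above. -/
theorem exists_prime_dim {I : Ideal R} (h : I ≠ ⊤) :
    ∃ P : Ideal R, P.IsPrime ∧ I ≤ P ∧ ringKrullDim (R ⧸ P) = ringKrullDim (R ⧸ I) := by
  obtain ⟨e, he⟩ := exists_dim_nat h
  obtain ⟨s, hs⟩ : ∃ s : LTSeries (PrimeSpectrum (R ⧸ I)), s.length = e :=
    (Order.le_krullDim_iff (n := e)).1 he.ge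
  let P : Ideal R := s.head.asIdeal.comap (Ideal.Quotient.mk I)
  have hIP : I ≤ P := fun x hx => by
    show Ideal.Quotient.mk I x ∈ s.head.asIdeal
    rw [Ideal.Quotient.eq_zero_iff_mem.2 hx]
    exact zero_mem _
  refine ⟨P, inferInstance, hIP, le_antisymm (dim_anti hIP) ?_⟩
  rw [he, ← hs]
  let e' : R ⧸ P →+* (R ⧸ I) ⧸ s.head.asIdeal :=
    Ideal.quotientMap _ (Ideal.Quotient.mk I) le_rfl
  let f : Fin (s.length + 1) → PrimeSpectrum ((R ⧸ I) ⧸ s.head.asIdeal) := fun i =>
    ⟨(s i).asIdeal.map (Ideal.Quotient.mk s.head.asIdeal), @Ideal.map_isPrime_of_surjective _ _ _ _ _ _ _ _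
      Ideal.Quotient.mk_surjective _ (s i).isPrime (by rw [Ideal.mk_ker]; exact (s.head_le i))⟩
  let t : LTSeries (PrimeSpectrum ((R ⧸ I) ⧸ s.head.asIdeal)) :=
    LTSeries.mk s.length f (fun i j hij => lt_of_le_of_ne (Ideal.map_mono (s.strictMono hij).le) fun he => (s.strictMono hij).ne
      (PrimeSpectrum.ext (by
        have h3 := congrArg (fun Q : PrimeSpectrum ((R ⧸ I) ⧸ s.head.asIdeal) =>
          Q.asIdeal.comap (Ideal.Quotient.mk s.head.asIdeal)) he
        simp only [f, Ideal.comap_map_of_surjective _ Ideal.Quotient.mk_surjective, ← RingHom.ker_eq_comap_bot,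
          Ideal.mk_ker] at h3
        rwa [sup_eq_left.2 (show s.head.asIdeal ≤ (s i).asIdeal from s.head_le i),
          sup_eq_left.2 (show s.head.asIdeal ≤ (s j).asIdeal from s.head_le j)] at h3)))
  refine (Order.LTSeries.length_le_krullDim t).trans (ringKrullDim_le_of_surjective e' ?_)
  intro y
  obtain ⟨z, rfl⟩ := Ideal.Quotient.mk_surjective y
  obtain ⟨x, rfl⟩ := Ideal.Quotient.mk_surjective z
  exact ⟨Ideal.Quotient.mk P x, Ideal.quotientMap_mk⟩

/-- Elements cutting the quotient down to dimension zero. -/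
theorem exists_elems {J : Ideal R} (h : J ≠ ⊤) {e : ℕ} (he : ringKrullDim (R ⧸ J) = e) :
    ∃ s : Finset R, s.card ≤ e ∧ (J ⊔ Ideal.span (s : Set R)).radical = maximalIdeal R := by
  classical
  haveI : Nontrivial (R ⧸ J) := Ideal.Quotient.nontrivial_iff.2 h
  haveI : IsLocalRing (R ⧸ J) := IsLocalRing.of_surjective' _ Ideal.Quotient.mk_surjective
  obtain ⟨n, x, N, hN, hn, hx⟩ := CohenLib.exists_primary_family (R ⧸ J)
  rw [he] at hn
  obtain rfl : n = e := by exact_mod_cast hn
  choose y hy using fun i => Ideal.Quotient.mk_surjective (x i)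
  refine ⟨Finset.univ.image y, Finset.card_image_le.trans (by simp), le_antisymm ?_ ?_⟩
  · refine ((maximalIdeal.isMaximal R).isPrime.radical_le_iff).2 (sup_le (le_maximalIdeal h) (Ideal.span_le.2 ?_))
    intro z hz
    simp only [Finset.coe_image, Finset.coe_univ, Set.image_univ, Set.mem_range] at hz
    obtain ⟨i, rfl⟩ := hz
    exact fun hu => hx i (hy i ▸ hu.map (Ideal.Quotient.mk J))
  · intro z hz
    refine ⟨N, ?_⟩
    have hzm : Ideal.Quotient.mk J z ∈ maximalIdeal (R ⧸ J) := by
      obtain ⟨w, hw⟩ : ∃ w, w = Ideal.Quotient.mk J z := ⟨_, rfl⟩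
      rw [← hw, mem_maximalIdeal, mem_nonunits_iff]
      intro hu
      obtain ⟨v, hv⟩ := hu.exists_right_inv
      obtain ⟨v', rfl⟩ := Ideal.Quotient.mk_surjective v
      rw [hw, ← map_mul, ← map_one (Ideal.Quotient.mk J), Ideal.Quotient.eq] at hv
      refine (maximalIdeal.isMaximal R).ne_top ((Ideal.eq_top_iff_one _).2 ?_)
      have := sub_mem (Ideal.mul_mem_right v' _ hz) (le_maximalIdeal h hv)
      simpa using this
    have h1 := hN (Ideal.pow_mem_pow hzm N)
    rw [show x = Ideal.Quotient.mk J ∘ y from funext fun i => (hy i).symm, Set.range_comp, ← Ideal.map_span,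
      ← map_pow, ← Ideal.mem_comap, Ideal.comap_map_of_surjective _ Ideal.Quotient.mk_surjective,
      ← RingHom.ker_eq_comap_bot, Ideal.mk_ker, sup_comm] at h1
    rwa [Finset.coe_image, Finset.coe_univ, Set.image_univ]

theorem cdLE_congr {I J : Ideal R} (h : I.radical = J.radical) {k : ℕ} (hk : LocCoh.CdLE R I k) :
    LocCoh.CdLE R J k := fun M _ _ i hi => (subsingleton_H_congr_radical h i M).1 (hk M i hi)

theorem cdLE_span (s : Finset R) : LocCoh.CdLE R (Ideal.span (s : Set R)) s.card := fun M _ _ i hi =>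
  subsingleton_H_of_length_lt _ s.toList (by simp [Finset.mem_toList]) i (by simpa using hi) M

theorem dim_le_cd_add {J : Ideal R} {k : ℕ} (hk : LocCoh.CdLE R J k) (P : Ideal R) [P.IsPrime] {e : ℕ}
    (hJ : J ≠ ⊤) (he : ringKrullDim (R ⧸ (J ⊔ P)) ≤ e) : ringKrullDim (R ⧸ P) ≤ (k + e : ℕ) := by
  classical
  have hne : J ⊔ P ≠ ⊤ := fun h => (maximalIdeal.isMaximal R).ne_top
    (top_le_iff.1 (h ▸ sup_le (le_maximalIdeal hJ) (le_maximalIdeal (Ideal.IsPrime.ne_top ‹_›))))
  obtain ⟨e₀, he₀⟩ := exists_dim_nat hne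
  have he' : e₀ ≤ e := by rw [he₀] at he; exact_mod_cast he
  obtain ⟨s, hs, hrad⟩ := exists_elems hne he₀
  obtain ⟨d, hd⟩ := exists_dim_nat (Ideal.IsPrime.ne_top ‹P.IsPrime›)
  by_contra hcon
  rw [hd] at hcon
  have hlt : k + e < d := by
    by_contra h'
    exact hcon (by exact_mod_cast (not_lt.1 h'))
  have h1 := cdLE_sup hk (cdLE_span s) (R ⧸ P) d (by omega)
  -- the module is killed by `P`
  obtain ⟨φ, -⟩ := exists_addEquiv_restrict (R := R) (R' := R ⧸ P) (J ⊔ Ideal.span (s : Set R)) (R ⧸ P) d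
  haveI : IsLocalRing (R ⧸ P) := IsLocalRing.of_surjective' _ Ideal.Quotient.mk_surjective
  have h2 := φ.toEquiv.subsingleton_congr.2 h1
  have h3 : ((J ⊔ Ideal.span (s : Set R)).map (algebraMap R (R ⧸ P))).radical =
      (maximalIdeal (R ⧸ P)).radical := by
    have hmm : maximalIdeal (R ⧸ P) = (maximalIdeal R).map (algebraMap R (R ⧸ P)) :=
      (IsLocalRing.eq_maximalIdeal (Ideal.IsMaximal.map_of_surjective_of_ker_le Ideal.Quotient.mk_surjective
        (by rw [Ideal.mk_ker]; exact le_maximalIdeal (Ideal.IsPrime.ne_top ‹_›)))).symm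
    refine le_antisymm (Ideal.radical_mono ?_) (Ideal.radical_le_radical_iff.2 ?_)
    · rw [hmm]
      refine Ideal.map_mono ?_
      rw [← hrad]
      exact le_trans (sup_le_sup_right le_sup_left _) Ideal.le_radical
    · rw [hmm, ← hrad]
      refine (Ideal.map_radical_le _).trans (Ideal.radical_mono ?_)
      rw [Ideal.map_sup, Ideal.map_sup, Ideal.map_sup, show P.map (algebraMap R (R ⧸ P)) = ⊥ from
        Ideal.map_quotient_self P, sup_bot_eq]
  rw [subsingleton_H_congr_radical h3] at h2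
  haveI := (LocCohLib.nonvanishing d (R ⧸ P) (by rw [Module.supportDim_self_eq_ringKrullDim, hd])).1
  exact not_subsingleton (LocCoh.H (maximalIdeal (R ⧸ P)) d (R ⧸ P)) h2

theorem sup_radical_inf (a b c : Ideal R) :
    ((a ⊔ c) ⊓ (b ⊔ c)).radical = ((a ⊓ b) ⊔ c).radical := by
  refine le_antisymm ?_ (Ideal.radical_mono (le_inf (sup_le_sup_right inf_le_left _) (sup_le_sup_right inf_le_right _)))
  rw [Ideal.radical_inf, ← Ideal.radical_mul]
  refine Ideal.radical_mono ?_
  rw [Ideal.sup_mul, Ideal.mul_sup]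
  exact sup_le (sup_le (Ideal.mul_le_inf.trans le_sup_left) (Ideal.mul_le_right.trans le_sup_right))
    (Ideal.mul_le_left.trans le_sup_right)

variable [IsAdicComplete (maximalIdeal R) R]

theorem dim_le_of_domain [IsDomain R] {n : ℕ} (hn : ringKrullDim R = n) : ∀ (δ : ℕ) (a b : Ideal R), a ≠ ⊤ → b ≠ ⊤ →
    ringKrullDim (R ⧸ (a ⊔ b)) = δ → (δ : WithBot ℕ∞) < min (ringKrullDim (R ⧸ a)) (ringKrullDim (R ⧸ b)) →
    ∀ k : ℕ, LocCoh.CdLE R (a ⊓ b) k → n ≤ k + δ + 1 := by
  intro δ
  induction δ with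
  | zero =>
    intro a b ha hb hδ hlt k hk
    rcases n with _ | m
    · omega
    have hab : (a ⊔ b).radical = (maximalIdeal R).radical := by
      have hne : a ⊔ b ≠ ⊤ := fun h => (maximalIdeal.isMaximal R).ne_top
        (top_le_iff.1 (h ▸ sup_le (le_maximalIdeal ha) (le_maximalIdeal hb)))
      obtain ⟨s, hs, hrad⟩ := exists_elems hne hδ
      rw [Finset.card_eq_zero.1 (Nat.le_zero.1 hs), Finset.coe_empty, Ideal.span_empty, sup_bot_eq] at hrad
      rw [hrad]
      exact (maximalIdeal.isMaximal R).isPrime.radical.symm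
    have hva := subsingleton_H_domain hn a ((lt_min_iff.1 hlt).1.trans_le' (by simp)) R (le_refl (m + 1))
    have hvb := subsingleton_H_domain hn b ((lt_min_iff.1 hlt).2.trans_le' (by simp)) R (le_refl (m + 1))
    have hne' : ¬ Subsingleton (LocCoh.H (a ⊔ b) (m + 1) R) := by
      rw [subsingleton_H_congr_radical hab]
      haveI := (LocCohLib.nonvanishing (m + 1) R (by rw [Module.supportDim_self_eq_ringKrullDim, hn])).1
      exact not_subsingleton (LocCoh.H (maximalIdeal R) (m + 1) R)
    have h1 := MV.subsingleton_H_inf_ne a b hne' hva hvb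
    by_contra hcon
    exact h1 (hk R m (by omega))
  | succ δ ih =>
    intro a b ha hb hδ hlt k hk
    classical
    have hne : a ⊔ b ≠ ⊤ := fun h => (maximalIdeal.isMaximal R).ne_top
      (top_le_iff.1 (h ▸ sup_le (le_maximalIdeal ha) (le_maximalIdeal hb)))
    obtain ⟨s, hs, hrad⟩ := exists_elems hne hδ
    -- an element lowering the dimension by one
    obtain ⟨y, hys⟩ : ∃ y, y ∈ s := by
      by_contra hcon
      push Not at hcon
      rw [Finset.eq_empty_of_forall_notMem hcon, Finset.coe_empty, Ideal.span_empty, sup_bot_eq] at hrad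
      have hd0 : ringKrullDim (R ⧸ (a ⊔ b)) = ringKrullDim (R ⧸ maximalIdeal R) :=
        dim_congr_radical (by rw [hrad, (maximalIdeal.isMaximal R).isPrime.radical])
      letI := Ideal.Quotient.field (maximalIdeal R)
      rw [hδ, ringKrullDim_eq_zero_of_field] at hd0
      exact absurd (by exact_mod_cast hd0 : δ + 1 = 0) (Nat.succ_ne_zero δ)
    have hym : y ∈ maximalIdeal R := hrad ▸ Ideal.le_radical (Ideal.mem_sup_right (Ideal.subset_span (Finset.mem_coe.2 hys)))
    have key : ∀ (c : Ideal R) (t : Finset R) (e : ℕ), c ≠ ⊤ →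
        (c ⊔ Ideal.span {y} ⊔ Ideal.span (t : Set R)).radical = maximalIdeal R → t.card ≤ e →
        ringKrullDim (R ⧸ (c ⊔ Ideal.span {y})) ≤ e := fun c t e hc hr he => by
      have hne' : c ⊔ Ideal.span {y} ≠ ⊤ := fun h => (maximalIdeal.isMaximal R).ne_top
        (top_le_iff.1 (h ▸ sup_le (le_maximalIdeal hc) ((Ideal.span_singleton_le_iff_mem _).2 hym)))
      obtain ⟨P, hP, hle, hPd⟩ := exists_prime_dim hne'
      rw [← hPd]
      have h0 : ringKrullDim (R ⧸ (Ideal.span (t : Set R) ⊔ P)) ≤ ((0 : ℕ) : WithBot ℕ∞) := by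
        refine (dim_anti (sup_le_sup_left hle _)).trans (le_of_eq ?_)
        rw [sup_comm, dim_congr_radical (J := maximalIdeal R) (by rw [hr, (maximalIdeal.isMaximal R).isPrime.radical])]
        letI := Ideal.Quotient.field (maximalIdeal R)
        rw [ringKrullDim_eq_zero_of_field]
        rfl
      refine (dim_le_cd_add (cdLE_span t) P ?_ h0).trans (by exact_mod_cast (show t.card + 0 ≤ e by omega))
      exact fun h => (maximalIdeal.isMaximal R).ne_top (top_le_iff.1 (hr ▸ (h.ge.trans le_sup_right).trans Ideal.le_radical))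
    have key2 : ∀ c : Ideal R, c ≠ ⊤ → ((δ + 1 : ℕ) : WithBot ℕ∞) < ringKrullDim (R ⧸ c) →
        (δ : WithBot ℕ∞) < ringKrullDim (R ⧸ (c ⊔ Ideal.span {y})) := fun c hc hlt' => by
      have hne' : c ⊔ Ideal.span {y} ≠ ⊤ := fun h => (maximalIdeal.isMaximal R).ne_top
        (top_le_iff.1 (h ▸ sup_le (le_maximalIdeal hc) ((Ideal.span_singleton_le_iff_mem _).2 hym)))
      obtain ⟨e, he⟩ := exists_dim_nat hne'
      obtain ⟨t, ht, htr⟩ := exists_elems hne' he
      obtain ⟨P, hP, hle, hPd⟩ := exists_prime_dim hc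
      have hspan : Ideal.span ((insert y t : Finset R) : Set R) = Ideal.span {y} ⊔ Ideal.span (t : Set R) := by
        rw [Finset.coe_insert, Ideal.span_insert]
      have h0 : ringKrullDim (R ⧸ (Ideal.span ((insert y t : Finset R) : Set R) ⊔ P)) ≤ ((0 : ℕ) : WithBot ℕ∞) := by
        refine (dim_anti (sup_le_sup_left hle _)).trans (le_of_eq ?_)
        rw [hspan, sup_comm, ← sup_assoc,
          dim_congr_radical (J := maximalIdeal R) (by rw [htr, (maximalIdeal.isMaximal R).isPrime.radical])]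
        letI := Ideal.Quotient.field (maximalIdeal R)
        rw [ringKrullDim_eq_zero_of_field]
        rfl
      have hnet : Ideal.span ((insert y t : Finset R) : Set R) ≠ ⊤ := fun h => (maximalIdeal.isMaximal R).ne_top
        (top_le_iff.1 (htr ▸ (h.ge.trans (hspan.le.trans
          (sup_le (le_sup_right.trans le_sup_left) le_sup_right))).trans Ideal.le_radical))
      have h2 := hlt'.trans_le (hPd.ge.trans (dim_le_cd_add (cdLE_span (insert y t)) P hnet h0))
      have h3 : δ + 1 < (insert y t).card + 0 := by exact_mod_cast h2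
      have h4 := Finset.card_insert_le y t
      rw [he]
      exact_mod_cast (show δ < e by omega)
    have hya : a ⊔ Ideal.span {y} ≠ ⊤ := fun h => (maximalIdeal.isMaximal R).ne_top
      (top_le_iff.1 (h ▸ sup_le (le_maximalIdeal ha) ((Ideal.span_singleton_le_iff_mem _).2 hym)))
    have hyb : b ⊔ Ideal.span {y} ≠ ⊤ := fun h => (maximalIdeal.isMaximal R).ne_top
      (top_le_iff.1 (h ▸ sup_le (le_maximalIdeal hb) ((Ideal.span_singleton_le_iff_mem _).2 hym)))
    have hsum : (a ⊔ Ideal.span {y}) ⊔ (b ⊔ Ideal.span {y}) = a ⊔ b ⊔ Ideal.span {y} := by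
      rw [sup_sup_sup_comm, sup_idem]
    have hle : ringKrullDim (R ⧸ (a ⊔ b ⊔ Ideal.span {y})) ≤ (δ : WithBot ℕ∞) := by
      refine key (a ⊔ b) (s.erase y) δ hne ?_ (by rw [Finset.card_erase_of_mem hys]; omega)
      rw [← hrad, sup_assoc]
      congr 2
      rw [← Ideal.span_insert, ← Finset.coe_insert, Finset.insert_erase hys]
    obtain ⟨δ', hδ'⟩ := exists_dim_nat (show a ⊔ b ⊔ Ideal.span {y} ≠ ⊤ from fun h => (maximalIdeal.isMaximal R).ne_top
      (top_le_iff.1 (h ▸ sup_le (sup_le (le_maximalIdeal ha) (le_maximalIdeal hb))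
        ((Ideal.span_singleton_le_iff_mem _).2 hym))))
    have hge : δ ≤ δ' := by
      by_contra hcon
      obtain ⟨t, ht, htr⟩ := exists_elems (show a ⊔ b ⊔ Ideal.span {y} ≠ ⊤ from fun h => (maximalIdeal.isMaximal R).ne_top
        (top_le_iff.1 (h ▸ sup_le (sup_le (le_maximalIdeal ha) (le_maximalIdeal hb))
          ((Ideal.span_singleton_le_iff_mem _).2 hym)))) hδ'
      obtain ⟨P, hP, hleP, hPd⟩ := exists_prime_dim hne
      have hspan : Ideal.span ((insert y t : Finset R) : Set R) = Ideal.span {y} ⊔ Ideal.span (t : Set R) := by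
        rw [Finset.coe_insert, Ideal.span_insert]
      have h0 : ringKrullDim (R ⧸ (Ideal.span ((insert y t : Finset R) : Set R) ⊔ P)) ≤ ((0 : ℕ) : WithBot ℕ∞) := by
        refine (dim_anti (sup_le_sup_left hleP _)).trans (le_of_eq ?_)
        rw [hspan, sup_comm, ← sup_assoc,
          dim_congr_radical (J := maximalIdeal R) (by rw [htr, (maximalIdeal.isMaximal R).isPrime.radical])]
        letI := Ideal.Quotient.field (maximalIdeal R)
        rw [ringKrullDim_eq_zero_of_field]
        rfl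
      have hnet : Ideal.span ((insert y t : Finset R) : Set R) ≠ ⊤ := fun h => (maximalIdeal.isMaximal R).ne_top
        (top_le_iff.1 (htr ▸ (h.ge.trans (hspan.le.trans
          (sup_le (le_sup_right.trans le_sup_left) le_sup_right))).trans Ideal.le_radical))
      have h2 := hPd.ge.trans (dim_le_cd_add (cdLE_span (insert y t)) P hnet h0)
      rw [hδ] at h2
      have h3 : δ + 1 ≤ (insert y t).card + 0 := by exact_mod_cast h2
      have h4 := Finset.card_insert_le y t
      omega
    obtain rfl : δ' = δ := by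
      rw [hδ'] at hle
      have : δ' ≤ δ := by exact_mod_cast hle
      omega
    have hk' : LocCoh.CdLE R ((a ⊔ Ideal.span {y}) ⊓ (b ⊔ Ideal.span {y})) (k + 1) := by
      refine cdLE_congr (sup_radical_inf a b (Ideal.span {y})).symm ?_
      have := cdLE_sup hk (cdLE_span ({y} : Finset R))
      simpa using this
    have := ih _ _ hya hyb (by rw [hsum, hδ']) (lt_min (key2 a ha (lt_min_iff.1 hlt).1) (key2 b hb (lt_min_iff.1 hlt).2)) _ hk'
    omega

end HLVTLib
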