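import Groth.Agent.HLVTLib.GorTop
import Groth.Agent.HLVTLib.Vanish
import Groth.Agent.CohenLib.Normalization
import Groth.Agent.CommAlgDim.Integral
import Groth.Agent.NormalLib.Regular
import Groth.Agent.AdicFSLib.BaseChange
import Groth.Agent.CatLib.Univ
import Groth.Agent.GorLib.Socle
import Mathlib.RingTheory.RegularLocalRing.Polynomial
import Mathlib.FieldTheory.Minpoly.IsIntegrallyClosed

/-!
# Hartshorne-Lichtenbaum vanishing for a complete domain
-/

set_option autoImplicit false
set_option linter.style.haveILetI false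
set_option linter.unusedSectionVars false
set_option maxHeartbeats 800000

universe u

open IsLocalRing LocCohLib

noncomputable section

namespace HLVTLib

/-- A complete domain is finite over a complete regular local subring. -/
theorem exists_regular_subring (R : Type u) [CommRing R] [IsDomain R] [IsLocalRing R] [IsNoetherianRing R]
    [IsAdicComplete (maximalIdeal R) R] :
    ∃ (S : Type u) (_ : CommRing S) (_ : IsRegularLocalRing S) (_ : IsAdicComplete (maximalIdeal S) S) (f : S →+* R),
      Function.Injective f ∧ f.Finite := by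
  obtain ⟨Λ, _, n, f, hΛ, hinj, hfin, -⟩ := CohenLib.exists_finite_injective R
  rcases hΛ with hF | hC
  · letI := hF.toField
    haveI := CommAlgDim.isRegularRing_mvPowerSeries Λ n
    haveI : IsNoetherianRing (MvPowerSeries (Fin n) Λ) := CohenLib.isNoetherianRing_mvPowerSeries (Λ := Λ) (n := n)
    haveI : IsRegularLocalRing (MvPowerSeries (Fin n) Λ) := IsRegularLocalRing.of_isRegularRing_of_isLocalRing _
    refine ⟨_, inferInstance, inferInstance, ?_, f, hinj, hfin⟩
    haveI : IsAdicComplete (maximalIdeal Λ) Λ := by rw [maximalIdeal_eq_bot]; infer_instance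
    rw [CohenLib.maximalIdeal_mvPowerSeries]
    exact CohenLib.isAdicComplete_sup_varsIdeal Λ (maximalIdeal Λ)
  · obtain ⟨_, hdvr, hc, -⟩ := hC
    haveI := hdvr
    haveI : IsAdicComplete (maximalIdeal Λ) Λ := hc
    haveI : IsRegularRing Λ := CommAlgDim.isRegularRing_of_isRegularLocalRing Λ
    haveI := CommAlgDim.isRegularRing_mvPowerSeries Λ n
    haveI : IsNoetherianRing (MvPowerSeries (Fin n) Λ) := CohenLib.isNoetherianRing_mvPowerSeries (Λ := Λ) (n := n)
    haveI : IsRegularLocalRing (MvPowerSeries (Fin n) Λ) := IsRegularLocalRing.of_isRegularRing_of_isLocalRing _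
    refine ⟨_, inferInstance, inferInstance, ?_, f, hinj, hfin⟩
    rw [CohenLib.maximalIdeal_mvPowerSeries]
    exact CohenLib.isAdicComplete_sup_varsIdeal Λ (maximalIdeal Λ)

/-- A local ring generated by one integral element over a regular local ring, torsion free, is Gorenstein. -/
theorem gorenstein_adjoin {S R : Type u} [CommRing S] [IsRegularLocalRing S] [CommRing R] [IsDomain R] [Algebra S R]
    [Module.IsTorsionFree S R] (y : R) (hy : IsIntegral S y) [IsLocalRing (Algebra.adjoin S ({y} : Set R))] :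
    LocCoh.IsGorensteinLocalRing (Algebra.adjoin S ({y} : Set R)) := by
  haveI : IsIntegrallyClosed S := NormalLib.isIntegrallyClosed_of_isRegularLocalRing S
  haveI : IsDomain S := CommAlgDim.isDomain_of_isRegularLocalRing S
  haveI : IsRegularRing S := CommAlgDim.isRegularRing_of_isRegularLocalRing S
  let B := Algebra.adjoin S ({y} : Set R)
  let σ : Polynomial S →+* B := (minpoly.equivAdjoin hy).toAlgHom.toRingHom.comp (AdjoinRoot.mk (minpoly S y))
  have hσ : Function.Surjective σ := (minpoly.equivAdjoin hy).surjective.comp AdjoinRoot.mk_surjective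
  have hker : RingHom.ker σ = Ideal.span {minpoly S y} := by
    ext x
    rw [RingHom.mem_ker, Ideal.mem_span_singleton, ← AdjoinRoot.mk_eq_zero]
    exact (minpoly.equivAdjoin hy).map_eq_zero_iff
  haveI : IsNoetherianRing B := isNoetherianRing_of_surjective _ _ σ hσ
  let M := (maximalIdeal B).comap σ
  let T := Localization.AtPrime M
  haveI : IsRegularLocalRing T := isRegularRing_iff.1 (inferInstance : IsRegularRing (Polynomial S)) M
  haveI : IsDomain T := CommAlgDim.isDomain_of_isRegularLocalRing T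
  obtain ⟨hψ, hkerψ⟩ := CatLib.localRingHom_surjective σ hσ (maximalIdeal B)
  let g : T := algebraMap (Polynomial S) T (minpoly S y)
  have hg0 : g ≠ 0 := fun h0 => (minpoly.monic hy).ne_zero
    ((map_eq_zero_iff _ (IsLocalization.injective T M.primeCompl_le_nonZeroDivisors)).1 h0)
  have hgm : g ∈ maximalIdeal T := by
    rw [← Localization.AtPrime.map_eq_maximalIdeal]
    refine Ideal.mem_map_of_mem _ ?_
    show σ (minpoly S y) ∈ maximalIdeal B
    rw [RingHom.mem_ker.1 (hker.ge (Ideal.mem_span_singleton_self _))]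
    exact zero_mem _
  have hTg : LocCoh.IsGorensteinLocalRing (T ⧸ Ideal.span {g}) :=
    (GorLib.gorenstein_quotient_iff (fun a b hab => mul_left_cancel₀ hg0 hab) hgm).1
      (Groth.Agent.DualCxLib.gorenstein_of_regular T)
  rw [hker, Ideal.map_span, Set.image_singleton] at hkerψ
  refine GorLib.gorenstein_of_ringEquiv ?_ hTg
  exact (IsLocalization.atUnits B (maximalIdeal B).primeCompl
    (S := Localization.AtPrime (maximalIdeal B)) (fun x hx => not_not.1 fun hu => hx hu)).toRingEquiv.trans
    ((RingHom.quotientKerEquivOfSurjective hψ).symm.trans (Ideal.quotEquivOfEq hkerψ))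

variable {R : Type u} [CommRing R] [IsDomain R] [IsLocalRing R] [IsNoetherianRing R]
  [IsAdicComplete (maximalIdeal R) R]

theorem subsingleton_H_prime {d : ℕ} (hd : ringKrullDim R = d) (p : Ideal R) [p.IsPrime]
    (hp : ringKrullDim (R ⧸ p) = 1) : Subsingleton (LocCoh.H p d R) := by
  classical
  obtain ⟨S, _, _, _, f, hinj, hfin⟩ := exists_regular_subring R
  letI : Algebra S R := f.toAlgebra
  haveI : Module.Finite S R := hfin
  haveI : IsDomain S := CommAlgDim.isDomain_of_isRegularLocalRing S
  haveI : IsNoetherianRing S := inferInstance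
  haveI : Module.IsTorsionFree S R := Module.isTorsionFree_iff_algebraMap_injective.2 hinj
  -- the element
  let P := p.comap (algebraMap S R)
  let J := P.map (algebraMap S R)
  obtain ⟨y, hyp, hy⟩ : ∃ y ∈ p, ∀ Q ∈ J.minimalPrimes, Q ≠ p → y ∉ Q := by
    let s : Finset (Ideal R) := (Ideal.finite_minimalPrimes_of_isNoetherianRing R J).toFinset.erase p
    have hmem : ∀ Q ∈ s, Q ∈ J.minimalPrimes ∧ Q ≠ p := fun Q hQ => by
      rw [Finset.mem_erase, Set.Finite.mem_toFinset] at hQ
      exact ⟨hQ.2, hQ.1⟩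
    by_contra hcon
    push Not at hcon
    have hsub : (p : Set R) ⊆ ⋃ Q ∈ (↑s : Set (Ideal R)), (id Q : Ideal R) := fun y hy => by
      obtain ⟨Q, hQ, hne, hyQ⟩ := hcon y hy
      exact Set.mem_biUnion (Finset.mem_coe.2 (Finset.mem_erase.2 ⟨hne, (Set.Finite.mem_toFinset _).2 hQ⟩)) hyQ
    obtain ⟨Q, hQ, hpQ⟩ := (Ideal.subset_union_prime (f := id) ⊤ ⊤ fun Q hQ _ _ => (hmem Q hQ).1.1.1).1 hsub
    exact (hmem Q hQ).2 (le_antisymm ((hmem Q hQ).1.2 ⟨inferInstance, Ideal.map_comap_le⟩ hpQ) hpQ)
  let B := Algebra.adjoin S ({y} : Set R)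
  haveI : Module.Finite B R := Module.Finite.of_restrictScalars_finite S B R
  haveI : Algebra.IsIntegral B R := inferInstance
  have hBinj : Function.Injective (algebraMap B R) := Subtype.val_injective
  haveI : IsLocalRing B := by
    haveI : FaithfulSMul B R := (faithfulSMul_iff_algebraMap_injective B R).2 hBinj
    refine IsLocalRing.of_unique_max_ideal ⟨(maximalIdeal R).comap (algebraMap B R),
      Ideal.isMaximal_comap_of_isIntegral_of_isMaximal _, fun N hN => ?_⟩
    obtain ⟨⟨Q, hQ, hQl⟩⟩ := Ideal.nonempty_primesOver (S := R) N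
    haveI := hQl
    haveI := hQ
    haveI := hN
    have hQm : Q = maximalIdeal R := IsLocalRing.eq_maximalIdeal
      (Ideal.isMaximal_of_isIntegral_of_isMaximal_comap (R := B) Q (by
        show (Q.under B).IsMaximal
        rw [← hQl.over]
        exact hN))
    rw [hQl.over, hQm]
  haveI : LocCoh.IsGorensteinLocalRing B := gorenstein_adjoin y (Algebra.IsIntegral.isIntegral y)
  haveI : Module.Finite S B := Module.Finite.of_injective (IsScalarTower.toAlgHom S B R).toLinearMap hBinj
  haveI : IsAdicComplete (maximalIdeal B) B := AdicFSLib.isAdicComplete_of_finite_local S B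
  let q := p.comap (algebraMap B R)
  have hdB : ringKrullDim B = d := by rw [← CommAlgDim.ringKrullDim_eq_of_integral B R hBinj, hd]
  have hqd : ringKrullDim (B ⧸ q) = 1 := by
    rw [← CommAlgDim.ringKrullDim_eq_of_integral (B ⧸ q) (R ⧸ p) Ideal.quotientMap_injective, hp]
  have hvan := subsingleton_H_map (S := R) hdB.le (subsingleton_H_top_of_gorenstein hdB q hqd) R le_rfl
  refine (subsingleton_H_congr_radical ?_ d R).1 hvan
  refine le_antisymm (Ideal.radical_mono Ideal.map_comap_le) (Ideal.radical_le_radical_iff.2 ?_)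
  rw [Ideal.radical_eq_sInf]
  refine le_sInf fun Q ⟨hQ, hQp⟩ => ?_
  haveI := hQp
  have hJQ : J ≤ Q := by
    refine le_trans (Ideal.map_le_iff_le_comap.2 fun x hx => ?_) hQ
    rw [Ideal.mem_comap, IsScalarTower.algebraMap_apply S B R]
    exact Ideal.mem_map_of_mem _ (show algebraMap B R (algebraMap S B x) ∈ p by
      rw [← IsScalarTower.algebraMap_apply]; exact hx)
  have hyQ : y ∈ Q := hQ (Ideal.mem_map_of_mem (algebraMap B R)
    (show (⟨y, Algebra.subset_adjoin (Set.mem_singleton y)⟩ : B) ∈ q from hyp))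
  have hPQ : P ≤ Q.comap (algebraMap S R) := Ideal.map_le_iff_le_comap.1 hJQ
  rcases hPQ.eq_or_lt with he | hlt
  · obtain ⟨Q₀, hQ₀, hle⟩ := Ideal.exists_minimalPrimes_le hJQ
    haveI := hQ₀.1.1
    have hQ₀Q : Q₀ = Q := by
      refine hle.eq_or_lt.resolve_right fun h => ?_
      have h1 := Ideal.IsIntegral.comap_lt_comap (R := S) h
      exact (lt_of_le_of_lt (Ideal.map_le_iff_le_comap.1 hQ₀.1.2) h1).ne he
    subst hQ₀Q
    exact (not_not.1 fun hne => hy Q₀ hQ₀ hne hyQ).ge
  · have hPd : ringKrullDim (S ⧸ P) = 1 := by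
      rw [← CommAlgDim.ringKrullDim_eq_of_integral (S ⧸ P) (R ⧸ p) Ideal.quotientMap_injective, hp]
    have hQm : Q = maximalIdeal R := IsLocalRing.eq_maximalIdeal
      (Ideal.isMaximal_of_isIntegral_of_isMaximal_comap (R := S) Q
        ((eq_maximal_of_dim_one hPd hlt).symm ▸ maximalIdeal.isMaximal S))
    rw [hQm]
    exact IsLocalRing.le_maximalIdeal (Ideal.IsPrime.ne_top ‹_›)

theorem exists_prime_dim_one {A : Type u} [CommRing A] [IsLocalRing A] [IsNoetherianRing A] {I : Ideal A}
    (hI : 0 < ringKrullDim (A ⧸ I)) : ∃ p : Ideal A, p.IsPrime ∧ I ≤ p ∧ ringKrullDim (A ⧸ p) = 1 := by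
  obtain ⟨q, hq, hIq, hqm⟩ := exists_prime_ne_maximal hI
  obtain ⟨p, ⟨hpp, hIp, hpm⟩, hmax⟩ := set_has_maximal_iff_noetherian.2 inferInstance
    {w : Ideal A | w.IsPrime ∧ I ≤ w ∧ w ≠ maximalIdeal A} ⟨q, hq, hIq, hqm⟩
  exact ⟨p, hpp, hIp, dim_eq_one_of_forall hpm fun b hb hlt =>
    by_contra fun hbm => hmax b ⟨hb, hIp.trans hlt.le, hbm⟩ hlt⟩

theorem subsingleton_H_domain {d : ℕ} (hd : ringKrullDim R = d) (I : Ideal R) (hI : 0 < ringKrullDim (R ⧸ I))
    (M : Type u) [AddCommGroup M] [Module R M] {i : ℕ} (hi : d ≤ i) : Subsingleton (LocCoh.H I i M) := by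
  obtain ⟨p, hp, hIp, hpd⟩ := exists_prime_dim_one hI
  refine subsingleton_H_of_ring hd.le ?_ M hi
  exact subsingleton_H_mono hd.le le_rfl hIp
    (by rw [IsLocalRing.jacobson_eq_maximalIdeal ⊥ bot_ne_top]; exact IsLocalRing.le_maximalIdeal hp.ne_top) R
    (subsingleton_H_prime hd p hpd)

end HLVTLib
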