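import Groth.Agent.HLVTLib.Symbolic
import Groth.Agent.FalLib.Stalk

/-!
# Vanishing of the top local cohomology of a complete Gorenstein domain
-/

set_option autoImplicit false
set_option linter.style.haveILetI false
set_option linter.unusedSectionVars false
set_option maxHeartbeats 400000

universe u

open CategoryTheory IsLocalRing LocCohLib Opposite Limits

noncomputable section

namespace HLVTLib

variable {B : Type u} [CommRing B]

theorem map_comp_app_eq_zero (G : (ModuleCat.{u} B)ᵒᵖ ⥤ ModuleCat.{u} B ⥤ ModuleCat.{u} B) {X Y Z : ModuleCat.{u} B}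
    (g₁ : X ⟶ Y) (g₂ : Y ⟶ Z) (M : ModuleCat.{u} B) (h : Subsingleton ((G.obj (op Y)).obj M))
    (y : (G.obj (op Z)).obj M) : (G.map (g₁ ≫ g₂).op).app M y = 0 := by
  rw [op_comp, G.map_comp, NatTrans.comp_app]
  show (G.map g₁.op).app M ((G.map g₂.op).app M y) = 0
  rw [Subsingleton.elim ((G.map g₂.op).app M y) 0, map_zero]

theorem subsingleton_colimit_of_factor (Φ : ℕᵒᵖ ⥤ ModuleCat.{u} B)
    (G : (ModuleCat.{u} B)ᵒᵖ ⥤ ModuleCat.{u} B ⥤ ModuleCat.{u} B) (M : ModuleCat.{u} B)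
    (h : ∀ k : ℕ, ∃ (m : ℕ) (hkm : k ≤ m) (Y : ModuleCat.{u} B) (g₁ : Φ.obj (op m) ⟶ Y) (g₂ : Y ⟶ Φ.obj (op k)),
      Φ.map (homOfLE hkm).op = g₁ ≫ g₂ ∧ Subsingleton ((G.obj (op Y)).obj M)) :
    Subsingleton ((colimit (Φ.op ⋙ G)).obj M) := by
  let F := (Φ.op ⋙ G) ⋙ (evaluation (ModuleCat.{u} B) (ModuleCat.{u} B)).obj M
  let e : (colimit (Φ.op ⋙ G)).obj M ≅ colimit F := colimitObjIsoColimitCompEvaluation _ _
  suffices Subsingleton (colimit F : ModuleCat.{u} B) from e.toLinearEquiv.toEquiv.subsingleton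
  refine subsingleton_of_forall_eq 0 fun x => ?_
  obtain ⟨t, y, rfl⟩ := Concrete.colimit_exists_rep F x
  induction t using Opposite.rec with
  | op t =>
  induction t using Opposite.rec with
  | op k =>
  obtain ⟨m, hkm, Y, g₁, g₂, hg, hY⟩ := h k
  rw [← ConcreteCategory.congr_hom (colimit.w F (homOfLE hkm).op.op) y]
  show colimit.ι F _ ((G.map (Φ.map (homOfLE hkm).op).op).app M y) = 0
  rw [hg, map_comp_app_eq_zero G g₁ g₂ M hY y, map_zero]

theorem subsingleton_H_of_cofinal (I : Ideal B) (i : ℕ) (M : Type u) [AddCommGroup M] [Module B M]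
    (h : ∀ k : ℕ, ∃ (J : Ideal B) (m : ℕ), k ≤ m ∧ I ^ m ≤ J ∧ J ≤ I ^ k ∧
      Subsingleton (((Ext B (ModuleCat.{u} B) i).obj (op (ModuleCat.of B (B ⧸ J)))).obj (ModuleCat.of B M))) :
    Subsingleton (LocCoh.H I i M) := by
  refine subsingleton_colimit_of_factor (localCohomology.ringModIdeals (localCohomology.idealPowersDiagram I))
    (Ext B (ModuleCat.{u} B) i) (ModuleCat.of B M) fun k => ?_
  obtain ⟨J, m, hkm, hmJ, hJk, hJ⟩ := h k
  refine ⟨m, hkm, ModuleCat.of B (B ⧸ J), ModuleCat.ofHom (Submodule.mapQ (I ^ m) J LinearMap.id hmJ),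
    ModuleCat.ofHom (Submodule.mapQ J (I ^ k) LinearMap.id hJk), ModuleCat.hom_ext (LinearMap.ext fun z => ?_), hJ⟩
  obtain ⟨w, rfl⟩ := Submodule.Quotient.mk_surjective (I ^ m) z
  rfl

theorem subsingleton_ext_top [LocCoh.IsGorensteinLocalRing B] {d : ℕ} (hd : ringKrullDim B = d) (J : Ideal B)
    (h : Subsingleton (LocCoh.H (maximalIdeal B) 0 (B ⧸ J))) :
    Subsingleton (((Ext B (ModuleCat.{u} B) d).obj (op (ModuleCat.of B (B ⧸ J)))).obj (ModuleCat.of B B)) := by
  obtain ⟨E, _, _, f, hf⟩ := InjHullLib.exists_injectiveHull (R := B) (ResidueField B)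
  obtain ⟨hvan, ⟨eK⟩⟩ := FalLib.gorenstein_canon B d hd E f hf
  obtain ⟨e⟩ := CanonModLib.local_duality hd.le hf.isInjective eK hvan (B ⧸ J) d le_rfl
  rw [Nat.sub_self] at e
  haveI := e.symm.injective.subsingleton
  exact CanonModLib.subsingleton_of_dual hf

theorem subsingleton_H0_quotient_symb [IsLocalRing B] [IsNoetherianRing B] {q : Ideal B} [q.IsPrime]
    (hq : q ≠ maximalIdeal B) (n : ℕ) : Subsingleton (LocCoh.H (maximalIdeal B) 0 (B ⧸ symb q n)) := by
  refine (subsingleton_H0_iff (maximalIdeal B) _).2 fun P hP hle => ?_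
  obtain ⟨t, htm, htq⟩ := SetLike.not_le_iff_exists.1 fun h => hq (le_antisymm (le_maximalIdeal (Ideal.IsPrime.ne_top ‹_›)) h)
  obtain ⟨hPp, v, hv⟩ := (isAssociatedPrime_iff (R := B) (I := P) (M := B ⧸ symb q n)).1 hP
  have hv0 : v = 0 := by
    obtain ⟨x, rfl⟩ := Ideal.Quotient.mk_surjective v
    have htP : t ∈ P := hle htm
    rw [hv, Submodule.mem_colon_singleton, Submodule.mem_bot] at htP
    rw [Ideal.Quotient.eq_zero_iff_mem]
    refine mem_symb_of_mul_mem htq (Ideal.Quotient.eq_zero_iff_mem.1 ?_)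
    rw [map_mul]
    exact htP
  subst hv0
  refine hPp.ne_top ((Ideal.eq_top_iff_one _).2 ?_)
  rw [hv, Submodule.mem_colon_singleton]
  simp

theorem subsingleton_H_top_of_gorenstein [LocCoh.IsGorensteinLocalRing B] [IsDomain B]
    [IsAdicComplete (maximalIdeal B) B] {d : ℕ} (hd : ringKrullDim B = d) (q : Ideal B) [q.IsPrime]
    (hq : ringKrullDim (B ⧸ q) = 1) : Subsingleton (LocCoh.H q d B) := by
  have hqm : q ≠ maximalIdeal B := fun h => by
    subst h
    letI := Ideal.Quotient.field (maximalIdeal B)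
    rw [ringKrullDim_eq_zero_of_field] at hq
    exact absurd hq zero_ne_one
  refine subsingleton_H_of_cofinal q d B fun k => ?_
  obtain ⟨m, hkm, hm⟩ := exists_symb_le q hq k
  exact ⟨symb q m, m, hkm, pow_le_symb q m, hm,
    subsingleton_ext_top hd _ (subsingleton_H0_quotient_symb hqm m)⟩

end HLVTLib
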