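import Groth.Agent.LocCohLib.ChangeSupport
import Groth.Agent.LocCohLib.BaseChange
import Groth.Agent.LocCohLib.CohDim

/-!
# Top local cohomology and enlarging the support inside the Jacobson radical
-/

set_option autoImplicit false
set_option linter.style.haveILetI false
set_option linter.unusedSectionVars false
set_option maxHeartbeats 400000

universe u

open CategoryTheory LocCohLib

noncomputable section

namespace HLVTLib

variable {R : Type u} [CommRing R]

theorem ringKrullDim_away_lt {d i : ℕ} (hd : ringKrullDim R ≤ d) (hi : d ≤ i) {b : R}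
    (hb : b ∈ (⊥ : Ideal R).jacobson) : ringKrullDim (Localization.Away b) < (i : WithBot ℕ∞) := by
  have key : ∀ s : LTSeries (PrimeSpectrum (Localization.Away b)), s.length < d := fun s => by
    let c := PrimeSpectrum.comap (algebraMap R (Localization.Away b))
    have hmono : StrictMono c := fun P Q h => lt_of_le_of_ne (fun x hx => h.le hx) fun he =>
      h.ne (PrimeSpectrum.localization_comap_injective _ (Submonoid.powers b) he)
    let t := s.map c hmono
    have hbt : b ∉ t.last.asIdeal := fun hb' =>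
      s.last.isPrime.ne_top (Ideal.eq_top_of_isUnit_mem _ hb'
        (IsLocalization.map_units (Localization.Away b) (⟨b, Submonoid.mem_powers b⟩ : Submonoid.powers b)))
    obtain ⟨m, hm, hle⟩ := Ideal.exists_le_maximal _ t.last.isPrime.ne_top
    have hbm : b ∈ m := Ideal.mem_sInf.1 hb ⟨bot_le, hm⟩
    have hlt : t.last < ⟨m, hm.isPrime⟩ := lt_of_le_of_ne hle fun he => hbt (by rw [he]; exact hbm)
    have h1 := (Order.LTSeries.length_le_krullDim (t.snoc _ hlt)).trans hd
    simp only [RelSeries.snoc_length] at h1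
    have h2 : s.length + 1 ≤ d := by exact_mod_cast h1
    omega
  rcases i with _ | i
  · haveI : IsEmpty (PrimeSpectrum (Localization.Away b)) :=
      ⟨fun P => absurd (key (RelSeries.singleton _ P)) (by omega)⟩
    rw [ringKrullDim, Order.krullDim_eq_bot_iff.2 inferInstance]
    exact WithBot.bot_lt_coe _
  · refine lt_of_le_of_lt (iSup_le fun s => ?_ : ringKrullDim (Localization.Away b) ≤ (i : WithBot ℕ∞))
      (by exact_mod_cast Nat.lt_succ_self i)
    exact_mod_cast (show s.length ≤ i by have := key s; omega)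

variable [IsNoetherianRing R]

/-- The top local cohomology of a localisation vanishes. -/
theorem subsingleton_H_away {d i : ℕ} (hd : ringKrullDim R ≤ d) (hi : d ≤ i) {b : R}
    (hb : b ∈ (⊥ : Ideal R).jacobson) (I : Ideal R) (M : Type u) [AddCommGroup M] [Module R M] :
    Subsingleton (LocCoh.H I i (LocalizedModule (Submonoid.powers b) M)) := by
  haveI : IsNoetherianRing (Localization.Away b) :=
    IsLocalization.isNoetherianRing (Submonoid.powers b) _ inferInstance
  haveI := subsingleton_H_of_supportDim_lt (I := I.map (algebraMap R (Localization.Away b))) i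
    (LocalizedModule (Submonoid.powers b) M)
    (lt_of_le_of_lt (Module.supportDim_le_ringKrullDim _ _) (ringKrullDim_away_lt hd hi hb))
  exact @Equiv.subsingleton _ _ (resLcEquiv (R' := Localization.Away b) I (LocalizedModule (Submonoid.powers b) M) i).symm.toEquiv
    (inferInstanceAs (Subsingleton (LocCoh.H (I.map (algebraMap R (Localization.Away b))) i
      (LocalizedModule (Submonoid.powers b) M))))

theorem subsingleton_H_of_sup_span {d i : ℕ} (hd : ringKrullDim R ≤ d) (hi : d ≤ i) {b : R}
    (hb : b ∈ (⊥ : Ideal R).jacobson) (I : Ideal R) (M : Type u) [AddCommGroup M] [Module R M]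
    (h : Subsingleton (LocCoh.H (I ⊔ Ideal.span {b}) i M)) : Subsingleton (LocCoh.H I i M) := by
  haveI := subsingleton_H_away hd hi hb I M
  refine subsingleton_of_forall_eq 0 fun x => ?_
  obtain ⟨y, rfl⟩ := ((exact_HmapOfLE_loc (b := b) rfl le_sup_left i M) x).1 (Subsingleton.elim _ _)
  haveI : Subsingleton ((localCohomology (I ⊔ Ideal.span {b}) i).obj (ModuleCat.of R M)) := h
  rw [Subsingleton.elim y 0, map_zero]

theorem subsingleton_H_mono {d i : ℕ} (hd : ringKrullDim R ≤ d) (hi : d ≤ i) {I I' : Ideal R} (hle : I ≤ I')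
    (hJ : I' ≤ (⊥ : Ideal R).jacobson) (M : Type u) [AddCommGroup M] [Module R M]
    (h : Subsingleton (LocCoh.H I' i M)) : Subsingleton (LocCoh.H I i M) := by
  suffices ∀ J : Ideal R, J.FG → J ≤ (⊥ : Ideal R).jacobson → ∀ K : Ideal R,
      Subsingleton (LocCoh.H (K ⊔ J) i M) → Subsingleton (LocCoh.H K i M) from
    this I' (IsNoetherian.noetherian I') hJ I (by rwa [sup_eq_right.2 hle])
  intro J hJfg
  induction J, hJfg using Submodule.fg_induction with
  | singleton b => exact fun hb K hK => subsingleton_H_of_sup_span hd hi (hb (Submodule.mem_span_singleton_self b)) K M hK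
  | sup J₁ J₂ _ _ h₁ h₂ =>
    exact fun hb K hK => h₁ (le_sup_left.trans hb) K (h₂ (le_sup_right.trans hb) _ (by rwa [sup_assoc]))

theorem nontrivial_H_mono [IsLocalRing R] {d : ℕ} (hd : ringKrullDim R ≤ d) {p b : Ideal R}
    (hp : Nontrivial (LocCoh.H p d R)) (hpb : p ≤ b) (hb : b ≠ ⊤) : Nontrivial (LocCoh.H b d R) := by
  rw [← not_subsingleton_iff_nontrivial] at hp ⊢
  exact fun h => hp (subsingleton_H_mono hd le_rfl hpb
    (by rw [IsLocalRing.jacobson_eq_maximalIdeal ⊥ bot_ne_top]; exact IsLocalRing.le_maximalIdeal hb) R h)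

section Dim

variable {A : Type u} [CommRing A] [IsLocalRing A]

theorem exists_prime_ne_maximal {p : Ideal A} (h : 0 < ringKrullDim (A ⧸ p)) :
    ∃ q : Ideal A, q.IsPrime ∧ p ≤ q ∧ q ≠ IsLocalRing.maximalIdeal A := by
  obtain ⟨s, hs⟩ : ∃ s : LTSeries (PrimeSpectrum (A ⧸ p)), 0 < s.length := by
    by_contra hcon
    push Not at hcon
    exact h.not_ge (iSup_le fun s => by exact_mod_cast hcon s)
  let c := PrimeSpectrum.comap (Ideal.Quotient.mk p)
  refine ⟨(c s.head).asIdeal, (c s.head).isPrime, fun x hx => ?_, fun he => ?_⟩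
  · show Ideal.Quotient.mk p x ∈ s.head.asIdeal
    rw [Ideal.Quotient.eq_zero_iff_mem.2 hx]
    exact zero_mem _
  · have hlt : s.head < s.last := s.strictMono (by
      show (0 : Fin (s.length + 1)) < Fin.last _
      exact Fin.lt_def.2 (by simpa using hs))
    refine hlt.ne (PrimeSpectrum.comap_injective_of_surjective _ Ideal.Quotient.mk_surjective
      (PrimeSpectrum.ext (le_antisymm (fun x hx => hlt.le hx) ?_)))
    exact (IsLocalRing.le_maximalIdeal (c s.last).isPrime.ne_top).trans he.ge

/-- The series given by a chain of two primes above `p`. -/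
theorem one_le_dim {p q q' : Ideal A} [q.IsPrime] [q'.IsPrime] (hp : p ≤ q) (h : q < q') :
    1 ≤ ringKrullDim (A ⧸ p) := by
  let e := (Ideal.Quotient.mk p)
  have hker : RingHom.ker e ≤ q := by rw [Ideal.mk_ker]; exact hp
  haveI := Ideal.map_isPrime_of_surjective Ideal.Quotient.mk_surjective hker
  haveI := Ideal.map_isPrime_of_surjective Ideal.Quotient.mk_surjective (hker.trans h.le)
  have hlt : (⟨q.map e, inferInstance⟩ : PrimeSpectrum (A ⧸ p)) < ⟨q'.map e, inferInstance⟩ := by
    refine lt_of_le_of_ne (Ideal.map_mono h.le) fun he => h.ne ?_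
    have he' : q.map e = q'.map e := congrArg PrimeSpectrum.asIdeal he
    have h2 := congrArg (Ideal.comap e) he'
    rwa [Ideal.comap_map_of_surjective _ Ideal.Quotient.mk_surjective, ← RingHom.ker_eq_comap_bot,
      sup_eq_left.2 hker, Ideal.comap_map_of_surjective _ Ideal.Quotient.mk_surjective,
      ← RingHom.ker_eq_comap_bot, sup_eq_left.2 (hker.trans h.le)] at h2
  let t : LTSeries (PrimeSpectrum (A ⧸ p)) :=
    (RelSeries.singleton _ (⟨q.map e, inferInstance⟩ : PrimeSpectrum (A ⧸ p))).snoc ⟨q'.map e, inferInstance⟩ hlt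
  exact (Order.LTSeries.length_le_krullDim t : ((1 : ℕ) : WithBot ℕ∞) ≤ _)

theorem pos_dim_of_ne_maximal {q : Ideal A} [q.IsPrime] (hq : q ≠ IsLocalRing.maximalIdeal A) :
    0 < ringKrullDim (A ⧸ q) :=
  lt_of_lt_of_le zero_lt_one (one_le_dim le_rfl (lt_of_le_of_ne (IsLocalRing.le_maximalIdeal (Ideal.IsPrime.ne_top ‹_›)) hq))

theorem dim_eq_one_of_forall {q : Ideal A} [q.IsPrime] (hq : q ≠ IsLocalRing.maximalIdeal A)
    (h : ∀ b : Ideal A, b.IsPrime → q < b → b = IsLocalRing.maximalIdeal A) : ringKrullDim (A ⧸ q) = 1 := by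
  refine le_antisymm (iSup_le fun s => ?_) (one_le_dim le_rfl
    (lt_of_le_of_ne (IsLocalRing.le_maximalIdeal (Ideal.IsPrime.ne_top ‹_›)) hq))
  let c := PrimeSpectrum.comap (Ideal.Quotient.mk q)
  by_contra hcon
  have hlen : 2 ≤ s.length := by
    by_contra h'
    exact hcon (by exact_mod_cast (show s.length ≤ 1 by omega))
  have hc : StrictMono c := fun P Q hPQ => lt_of_le_of_ne (fun x hx => hPQ.le hx) fun he =>
    hPQ.ne (PrimeSpectrum.comap_injective_of_surjective _ Ideal.Quotient.mk_surjective he)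
  have hm : ∀ i : Fin (s.length + 1), (i : ℕ) ≠ 0 → (c (s i)).asIdeal = IsLocalRing.maximalIdeal A := fun i hi => by
    refine h _ (c (s i)).isPrime (lt_of_le_of_lt (fun x hx => ?_) (hc (s.strictMono (show (⟨0, by omega⟩ : Fin (s.length + 1)) < i from Nat.pos_of_ne_zero hi))))
    show Ideal.Quotient.mk q x ∈ (s ⟨0, Nat.succ_pos _⟩).asIdeal
    rw [Ideal.Quotient.eq_zero_iff_mem.2 hx]
    exact zero_mem _
  exact (hc (s.strictMono (show (⟨1, by omega⟩ : Fin (s.length + 1)) < ⟨2, by omega⟩ from Nat.one_lt_two))).ne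
    (PrimeSpectrum.ext ((hm _ Nat.one_ne_zero).trans (hm _ two_ne_zero).symm))

end Dim

end HLVTLib
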